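import Cfsg.Agent.H71.D4Two.Tree

/-! Certificate data. -/

set_option autoImplicit false
set_option maxRecDepth 100000

namespace Cfsg.Agent.H71.D4Two

/-- Data. -/
def dCertV : Tree :=
.B (.B (.B (.B (.B (.B (.B (.B (.L 0x240)
  (.E))
  (.B (.L 0x1d15c5a)
  (.E)))
  (.B (.B (.L 0x39a)
  (.E))
  (.B (.L 0x422d8ae2a8c04)
  (.E))))
  (.B (.B (.B (.L 0x250)
  (.E))
  (.B (.L 0x22f8ae2d845508c24)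
  (.E)))
  (.B (.B (.L 0x1d15c52)
  (.E))
  (.B (.L 0x422d8aa2e8c00)
  (.E)))))
  (.B (.B (.B (.B (.L 0x248)
  (.E))
  (.B (.L 0x1f16c52)
  (.E)))
  (.B (.B (.L 0x3a4)
  (.E))
  (.B (.L 0x422d8aa2e8c06)
  (.E))))
  (.B (.B (.B (.L 0x364)
  (.E))
  (.B (.L 0x42298a6298c00)
  (.E)))
  (.B (.B (.L 0x1d15c62)
  (.E))
  (.B (.L 0x42298a6298c22)
  (.E))))))
  (.B (.B (.B (.B (.B (.L 0x244)
  (.E))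
  (.B (.L 0x1d15c44)
  (.E)))
  (.B (.B (.L 0x264)
  (.E))
  (.B (.L 0x42298a6298c08)
  (.E))))
  (.B (.B (.B (.L 0x288)
  (.E))
  (.B (.L 0x42298a6298c06)
  (.E)))
  (.B (.B (.L 0x1b15c40)
  (.E))
  (.B (.L 0x422d8aa2e8c12)
  (.E)))))
  (.B (.B (.B (.B (.L 0x386)
  (.E))
  (.B (.L 0x1d15c40)
  (.E)))
  (.B (.B (.L 0x22f8ae2d845508c04)
  (.E))
  (.B (.L 0x422d8ae2a8c10)
  (.E))))
  (.B (.B (.B (.L 0x290)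
  (.E))
  (.B (.L 0x42298a6298c12)
  (.E)))
  (.B (.B (.L 0x1f16c46)
  (.E))
  (.B (.L 0x422d8aa2e8c10)
  (.E)))))))
  (.B (.B (.B (.B (.B (.B (.L 0x244)
  (.E))
  (.B (.L 0x1d15c64)
  (.E)))
  (.B (.B (.L 0x262)
  (.E))
  (.B (.L 0x422d8ae2a8c12)
  (.E))))
  (.B (.B (.B (.L 0x252)
  (.E))
  (.B (.L 0x1b15c64)
  (.E)))
  (.B (.B (.L 0x1f16c44)
  (.E))
  (.B (.L 0x422d8aa2e8c04)
  (.E)))))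
  (.B (.B (.B (.B (.L 0x384)
  (.E))
  (.B (.L 0x1b15c62)
  (.E)))
  (.B (.B (.L 0x1d15c50)
  (.E))
  (.B (.L 0x422d8ae2a8c08)
  (.E))))
  (.B (.B (.B (.L 0x25a)
  (.E))
  (.B (.L 0x42298a6298c04)
  (.E)))
  (.B (.B (.L 0x1f16c40)
  (.E))
  (.B (.L 0x362b8ac0)
  (.E))))))
  (.B (.B (.B (.B (.B (.L 0x246)
  (.E))
  (.B (.L 0x1f16c48)
  (.E)))
  (.B (.B (.L 0x264)
  (.E))
  (.B (.L 0x42298a6298c10)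
  (.E))))
  (.B (.B (.B (.L 0x362)
  (.E))
  (.B (.L 0x362b8ad0)
  (.E)))
  (.B (.B (.L 0x1b15c46)
  (.E))
  (.B (.L 0x42298a6298c1a)
  (.E)))))
  (.B (.B (.B (.B (.L 0x35a)
  (.E))
  (.B (.L 0x1d15c46)
  (.E)))
  (.B (.B (.L 0x1d15c48)
  (.E))
  (.B (.L 0x42298a6298c24)
  (.E))))
  (.B (.B (.B (.L 0x292)
  (.E))
  (.B (.L 0x422d8ae2a8c00)
  (.E)))
  (.B (.B (.L 0x1f16c50)
  (.E))
  (.E)))))))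
  (.B (.B (.B (.B (.B (.B (.B (.L 0x240)
  (.E))
  (.B (.L 0x1f16c50)
  (.E)))
  (.B (.B (.L 0x292)
  (.E))
  (.B (.L 0x2a2d8b44)
  (.E))))
  (.B (.B (.B (.L 0x35a)
  (.E))
  (.B (.L 0x1b15c5a)
  (.E)))
  (.B (.B (.L 0x1b15c40)
  (.E))
  (.B (.L 0x362b8ac6)
  (.E)))))
  (.B (.B (.B (.B (.L 0x246)
  (.E))
  (.B (.L 0x22f8ae2d845508c22)
  (.E)))
  (.B (.B (.L 0x3a4)
  (.E))
  (.B (.L 0x2a2d8b40)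
  (.E))))
  (.B (.B (.B (.L 0x290)
  (.E))
  (.B (.L 0x3a2b8ac6)
  (.E)))
  (.B (.B (.L 0x1b15c46)
  (.E))
  (.B (.L 0x3a2b8ae2)
  (.E))))))
  (.B (.B (.B (.B (.B (.L 0x380)
  (.E))
  (.B (.L 0x1d15c64)
  (.E)))
  (.B (.B (.L 0x3a2)
  (.E))
  (.B (.L 0x362b8ae4)
  (.E))))
  (.B (.B (.B (.L 0x252)
  (.E))
  (.B (.L 0x362b8ad2)
  (.E)))
  (.B (.B (.L 0x22f8ae2d845508c08)
  (.E))
  (.B (.L 0x2a2d8b48)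
  (.E)))))
  (.B (.B (.B (.B (.L 0x250)
  (.E))
  (.B (.L 0x1b15c62)
  (.E)))
  (.B (.B (.L 0x1b15c44)
  (.E))
  (.B (.L 0x2a2d8b50)
  (.E))))
  (.B (.B (.B (.L 0x25a)
  (.E))
  (.B (.L 0x362b8ac8)
  (.E)))
  (.B (.B (.L 0x1d15c5a)
  (.E))
  (.B (.L 0x3a2b8ada)
  (.E)))))))
  (.B (.B (.B (.B (.B (.B (.L 0x380)
  (.E))
  (.B (.L 0x1f16c48)
  (.E)))
  (.B (.B (.L 0x39a)
  (.E))
  (.B (.L 0x3a2b8ac0)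
  (.E))))
  (.B (.B (.B (.L 0x362)
  (.E))
  (.B (.L 0x1b15c64)
  (.E)))
  (.B (.B (.L 0x22f8ae2d845508c06)
  (.E))
  (.B (.L 0x362b8ac4)
  (.E)))))
  (.B (.B (.B (.B (.L 0x248)
  (.E))
  (.B (.L 0x1f16c52)
  (.E)))
  (.B (.B (.L 0x22f8ae2d845508c00)
  (.E))
  (.B (.L 0x2a2d8b52)
  (.E))))
  (.B (.B (.B (.L 0x364)
  (.E))
  (.B (.L 0x3a2b8ac4)
  (.E)))
  (.B (.B (.L 0x1d15c62)
  (.E))
  (.B (.L 0x422d8aa2e8c08)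
  (.E))))))
  (.B (.B (.B (.B (.B (.L 0x384)
  (.E))
  (.B (.L 0x22f8ae2d845508c1a)
  (.E)))
  (.B (.B (.L 0x3a2)
  (.E))
  (.B (.L 0x362b8ae2)
  (.E))))
  (.B (.B (.B (.L 0x288)
  (.E))
  (.B (.L 0x422d8ae2a8c06)
  (.E)))
  (.B (.B (.L 0x22f8ae2d845508c10)
  (.E))
  (.B (.L 0x3a2b8ae4)
  (.E)))))
  (.B (.B (.B (.B (.L 0x386)
  (.E))
  (.B (.L 0x1b15c5a)
  (.E)))
  (.B (.B (.L 0x1b15c44)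
  (.E))
  (.B (.L 0x362b8ada)
  (.E))))
  (.B (.B (.B (.L 0x262)
  (.E))
  (.B (.L 0x2a2d8b46)
  (.E)))
  (.B (.B (.L 0x22f8ae2d845508c12)
  (.E))
  (.E)))))))

end Cfsg.Agent.H71.D4Two
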