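import Cfsg.Agent.H71.D4Two.Tree

/-! Certificate data. -/

set_option autoImplicit false
set_option maxRecDepth 100000

namespace Cfsg.Agent.H71.D4Two

/-- Data. -/
def dCertY : Tree :=
.B (.B (.B (.B (.B (.B (.B (.B (.L 0x1)
  (.E))
  (.B (.L 0xa01)
  (.E)))
  (.B (.B (.L 0x3)
  (.E))
  (.B (.L 0x680a01)
  (.E))))
  (.B (.B (.B (.L 0x1)
  (.E))
  (.B (.L 0x601)
  (.E)))
  (.B (.B (.L 0xa01)
  (.E))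
  (.B (.L 0x580a01)
  (.E)))))
  (.B (.B (.B (.B (.L 0x1)
  (.E))
  (.B (.L 0x1601)
  (.E)))
  (.B (.B (.L 0x3)
  (.E))
  (.B (.L 0x580a01)
  (.E))))
  (.B (.B (.B (.L 0x2)
  (.E))
  (.B (.L 0x180601)
  (.E)))
  (.B (.B (.L 0xa01)
  (.E))
  (.B (.L 0x180601)
  (.E))))))
  (.B (.B (.B (.B (.B (.L 0x1)
  (.E))
  (.B (.L 0xa01)
  (.E)))
  (.B (.B (.L 0x1)
  (.E))
  (.B (.L 0x180601)
  (.E))))
  (.B (.B (.B (.L 0x5)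
  (.E))
  (.B (.L 0x180601)
  (.E)))
  (.B (.B (.L 0xe01)
  (.E))
  (.B (.L 0x580a01)
  (.E)))))
  (.B (.B (.B (.B (.L 0x3)
  (.E))
  (.B (.L 0xa01)
  (.E)))
  (.B (.B (.L 0x601)
  (.E))
  (.B (.L 0x680a01)
  (.E))))
  (.B (.B (.B (.L 0x5)
  (.E))
  (.B (.L 0x180601)
  (.E)))
  (.B (.B (.L 0x1601)
  (.E))
  (.B (.L 0x580a01)
  (.E)))))))
  (.B (.B (.B (.B (.B (.B (.L 0x30)
  (.E))
  (.B (.L 0xa01)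
  (.E)))
  (.B (.B (.L 0x1)
  (.E))
  (.B (.L 0x680a01)
  (.E))))
  (.B (.B (.B (.L 0x1)
  (.E))
  (.B (.L 0xe01)
  (.E)))
  (.B (.B (.L 0x1601)
  (.E))
  (.B (.L 0x580a01)
  (.E)))))
  (.B (.B (.B (.B (.L 0x3)
  (.E))
  (.B (.L 0xe01)
  (.E)))
  (.B (.B (.L 0xa01)
  (.E))
  (.B (.L 0x680a01)
  (.E))))
  (.B (.B (.B (.L 0x1)
  (.E))
  (.B (.L 0x180601)
  (.E)))
  (.B (.B (.L 0x1601)
  (.E))
  (.B (.L 0x280601)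
  (.E))))))
  (.B (.B (.B (.B (.B (.L 0x1)
  (.E))
  (.B (.L 0x1601)
  (.E)))
  (.B (.B (.L 0x30)
  (.E))
  (.B (.L 0x180601)
  (.E))))
  (.B (.B (.B (.L 0x2)
  (.E))
  (.B (.L 0x280601)
  (.E)))
  (.B (.B (.L 0xe01)
  (.E))
  (.B (.L 0x180601)
  (.E)))))
  (.B (.B (.B (.B (.L 0x2)
  (.E))
  (.B (.L 0xa01)
  (.E)))
  (.B (.B (.L 0xa01)
  (.E))
  (.B (.L 0x180601)
  (.E))))
  (.B (.B (.B (.L 0x5)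
  (.E))
  (.B (.L 0x680a01)
  (.E)))
  (.B (.B (.L 0x1601)
  (.E))
  (.E)))))))
  (.B (.B (.B (.B (.B (.B (.B (.L 0x30)
  (.E))
  (.B (.L 0x2c030)
  (.E)))
  (.B (.B (.L 0xb0)
  (.E))
  (.B (.L 0x580601)
  (.E))))
  (.B (.B (.B (.L 0x50)
  (.E))
  (.B (.L 0xe01)
  (.E)))
  (.B (.B (.L 0x1c030)
  (.E))
  (.B (.L 0x280601)
  (.E)))))
  (.B (.B (.B (.B (.L 0x30)
  (.E))
  (.B (.L 0x601)
  (.E)))
  (.B (.B (.L 0x70)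
  (.E))
  (.B (.L 0x580601)
  (.E))))
  (.B (.B (.B (.L 0xb0)
  (.E))
  (.B (.L 0x380601)
  (.E)))
  (.B (.B (.L 0x1c030)
  (.E))
  (.B (.L 0x380601)
  (.E))))))
  (.B (.B (.B (.B (.B (.L 0x70)
  (.E))
  (.B (.L 0x14030)
  (.E)))
  (.B (.B (.L 0x70)
  (.E))
  (.B (.L 0x280601)
  (.E))))
  (.B (.B (.B (.L 0x30)
  (.E))
  (.B (.L 0x280601)
  (.E)))
  (.B (.B (.L 0x601)
  (.E))
  (.B (.L 0x580601)
  (.E)))))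
  (.B (.B (.B (.B (.L 0x30)
  (.E))
  (.B (.L 0x1c030)
  (.E)))
  (.B (.B (.L 0xe01)
  (.E))
  (.B (.L 0x580601)
  (.E))))
  (.B (.B (.B (.L 0x30)
  (.E))
  (.B (.L 0x280601)
  (.E)))
  (.B (.B (.L 0x14030)
  (.E))
  (.B (.L 0x380601)
  (.E)))))))
  (.B (.B (.B (.B (.B (.B (.L 0x3)
  (.E))
  (.B (.L 0x2c030)
  (.E)))
  (.B (.B (.L 0x70)
  (.E))
  (.B (.L 0x380601)
  (.E))))
  (.B (.B (.B (.L 0x50)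
  (.E))
  (.B (.L 0x1c030)
  (.E)))
  (.B (.B (.L 0x601)
  (.E))
  (.B (.L 0x280601)
  (.E)))))
  (.B (.B (.B (.B (.L 0x30)
  (.E))
  (.B (.L 0x2c030)
  (.E)))
  (.B (.B (.L 0x601)
  (.E))
  (.B (.L 0x580601)
  (.E))))
  (.B (.B (.B (.L 0x50)
  (.E))
  (.B (.L 0x380601)
  (.E)))
  (.B (.B (.L 0x14030)
  (.E))
  (.B (.L 0x580a01)
  (.E))))))
  (.B (.B (.B (.B (.B (.L 0x70)
  (.E))
  (.B (.L 0x601)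
  (.E)))
  (.B (.B (.L 0x3)
  (.E))
  (.B (.L 0x280601)
  (.E))))
  (.B (.B (.B (.L 0xb0)
  (.E))
  (.B (.L 0x680a01)
  (.E)))
  (.B (.B (.L 0x601)
  (.E))
  (.B (.L 0x380601)
  (.E)))))
  (.B (.B (.B (.B (.L 0x70)
  (.E))
  (.B (.L 0x1c030)
  (.E)))
  (.B (.B (.L 0x1c030)
  (.E))
  (.B (.L 0x280601)
  (.E))))
  (.B (.B (.B (.L 0x30)
  (.E))
  (.B (.L 0x580601)
  (.E)))
  (.B (.B (.L 0x601)
  (.E))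
  (.E)))))))

end Cfsg.Agent.H71.D4Two
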