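import Cfsg.Agent.H71.D4Two.Tree

/-! Certificate data. -/

set_option autoImplicit false
set_option maxRecDepth 100000

namespace Cfsg.Agent.H71.D4Two

/-- Data. -/
def dRWord : Tree :=
.B (.B (.B (.B (.B (.B (.B (.B (.B (.B (.B (.B (.L 0)
  (.L 0x20780a301b))
  (.B (.L 0x5806300b)
  (.E)))
  (.B (.B (.L 0x16301b)
  (.E))
  (.B (.L 0x1816302b)
  (.E))))
  (.B (.B (.B (.L 0x40903a)
  (.L 0x51806303b))
  (.B (.L 0x2806301b)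
  (.E)))
  (.B (.B (.L 0x80a3023)
  (.E))
  (.B (.L 0x101c0b03b)
  (.E)))))
  (.B (.B (.B (.B (.L 0x46038a)
  (.L 0x700c07023))
  (.B (.L 0x118063013)
  (.E)))
  (.B (.B (.L 0x3c0f00b)
  (.E))
  (.B (.L 0x38c03033)
  (.E))))
  (.B (.B (.B (.L 0x6812018a)
  (.L 0x12078c0b013))
  (.B (.L 0x380a3023)
  (.E)))
  (.B (.B (.L 0x8123033)
  (.E))
  (.B (.L 0x302c0d00b)
  (.E))))))
  (.B (.B (.B (.B (.B (.L 0x23012)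
  (.L 0xb01c0f01b))
  (.B (.L 0x68c0500b)
  (.E)))
  (.B (.B (.L 0x40d03b)
  (.E))
  (.B (.L 0x78c0b02b)
  (.E))))
  (.B (.B (.B (.L 0x3c6068a)
  (.L 0x1202816300b))
  (.B (.L 0x58c0501b)
  (.E)))
  (.B (.B (.L 0x80e302b)
  (.E))
  (.B (.L 0x5181a300b)
  (.E)))))
  (.B (.B (.B (.B (.L 0x40d012)
  (.L 0x2018c0902b))
  (.B (.L 0x102403013)
  (.E)))
  (.B (.B (.L 0x806301b)
  (.E))
  (.B (.L 0x280e303b)
  (.E))))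
  (.B (.B (.B (.L 0x23023)
  (.E))
  (.B (.L 0x78c07023)
  (.E)))
  (.B (.B (.L 0x816303b)
  (.E))
  (.B (.L 0x20581a3013)
  (.E)))))))
  (.B (.B (.B (.B (.B (.B (.L 0x32)
  (.L 0x9181a301b))
  (.B (.L 0x5816300b)
  (.E)))
  (.B (.B (.L 0x40502b)
  (.E))
  (.B (.L 0x38c0502b)
  (.E))))
  (.B (.B (.B (.L 0x806038a)
  (.L 0x20481a303b))
  (.B (.L 0x3816301b)
  (.E)))
  (.B (.B (.L 0x1409023)
  (.E))
  (.B (.L 0x5180e300b)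
  (.E)))))
  (.B (.B (.B (.B (.L 0x46078a)
  (.L 0xf1812302b))
  (.B (.L 0x118163013)
  (.E)))
  (.B (.B (.L 0x8c09013)
  (.E))
  (.B (.L 0x10340b033)
  (.E))))
  (.B (.B (.B (.L 0x3b)
  (.E))
  (.B (.L 0x681a3023)
  (.E)))
  (.B (.B (.L 0x2409033)
  (.E))
  (.B (.L 0xb180e3013)
  (.E))))))
  (.B (.B (.B (.B (.B (.L 0x23032)
  (.L 0x2058123023))
  (.B (.L 0x38c0b00b)
  (.E)))
  (.B (.B (.L 0x3c0700b)
  (.E))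
  (.B (.L 0x380e3033)
  (.E))))
  (.B (.B (.B (.L 0x80a3012)
  (.L 0x6068c0b00b))
  (.B (.L 0x38c0d01b)
  (.E)))
  (.B (.B (.L 0x1c0902b)
  (.E))
  (.B (.L 0x703c0500b)
  (.E)))))
  (.B (.B (.B (.B (.L 0x16302a)
  (.L 0x518123033))
  (.B (.L 0x18c0b013)
  (.E)))
  (.B (.B (.L 0xc0901b)
  (.E))
  (.B (.L 0x28c0303b)
  (.E))))
  (.B (.B (.B (.L 0x6300b)
  (.E))
  (.B (.L 0x38c0f023)
  (.E)))
  (.B (.B (.L 0x2c0903b)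
  (.E))
  (.B (.L 0x2048c0d013)
  (.E))))))))
  (.B (.B (.B (.B (.B (.B (.B (.L 0x689)
  (.L 0x205812301b))
  (.B (.L 0x580e300b)
  (.E)))
  (.B (.B (.L 0x1e3023)
  (.E))
  (.B (.L 0x481e302b)
  (.E))))
  (.B (.B (.B (.L 0x1c6028a)
  (.L 0x20180e303b))
  (.B (.L 0x280e301b)
  (.E)))
  (.B (.B (.L 0x1405023)
  (.E))
  (.B (.L 0xd1806300b)
  (.E)))))
  (.B (.B (.B (.B (.L 0x46058a)
  (.L 0xf1806302b))
  (.B (.L 0x1180e3013)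
  (.E)))
  (.B (.B (.L 0x8c05013)
  (.E))
  (.B (.L 0x58c07033)
  (.E))))
  (.B (.B (.B (.L 0x31806018a)
  (.L 0xa068c0f023))
  (.B (.L 0x48123023)
  (.E)))
  (.B (.B (.L 0x2405033)
  (.E))
  (.B (.L 0x2048063013)
  (.E))))))
  (.B (.B (.B (.B (.B (.L 0x23022)
  (.L 0xf180a3023))
  (.B (.L 0x10340700b)
  (.E)))
  (.B (.B (.L 0x3c0300b)
  (.E))
  (.B (.L 0x28063033)
  (.E))))
  (.B (.B (.B (.L 0x806300a)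
  (.L 0x6300c0300b))
  (.B (.L 0x38c0901b)
  (.E)))
  (.B (.B (.L 0x1c0502b)
  (.E))
  (.B (.L 0x20581e300b)
  (.E)))))
  (.B (.B (.B (.B (.L 0xa3022)
  (.L 0x2068063033))
  (.B (.L 0x78c07013)
  (.E)))
  (.B (.B (.L 0xc0501b)
  (.E))
  (.B (.L 0x6816303b)
  (.E))))
  (.B (.B (.B (.L 0x23033)
  (.E))
  (.B (.L 0x78c0b023)
  (.E)))
  (.B (.B (.L 0x2c0503b)
  (.E))
  (.B (.L 0x2303407013)
  (.E)))))))
  (.B (.B (.B (.B (.B (.B (.L 0x103a)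
  (.L 0x2078c0901b))
  (.B (.L 0x581e300b)
  (.E)))
  (.B (.B (.L 0x409033)
  (.E))
  (.B (.L 0x10240702b)
  (.E))))
  (.B (.B (.B (.L 0x146058a)
  (.L 0xa0180e300b))
  (.B (.L 0x581e301b)
  (.E)))
  (.B (.B (.L 0x140d023)
  (.E))
  (.B (.L 0xd1812300b)
  (.E)))))
  (.B (.B (.B (.B (.L 0x40700a)
  (.L 0x5181e302b))
  (.B (.L 0x1181e3013)
  (.E)))
  (.B (.B (.L 0x8c0d013)
  (.E))
  (.B (.L 0x11806303b)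
  (.E))))
  (.B (.B (.B (.L 0x23013)
  (.E))
  (.B (.L 0x102403023)
  (.E)))
  (.B (.B (.L 0x240d033)
  (.E))
  (.B (.L 0xb18163013)
  (.E))))))
  (.B (.B (.B (.B (.B (.L 0x46018a)
  (.L 0x5181e3023))
  (.B (.L 0x100c0d00b)
  (.E)))
  (.B (.B (.L 0x3c0b00b)
  (.E))
  (.B (.L 0x48163033)
  (.E))))
  (.B (.B (.B (.L 0x8c0d02a)
  (.L 0xe048063013))
  (.B (.L 0x78c0f01b)
  (.E)))
  (.B (.B (.L 0x1c0d02b)
  (.E))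
  (.B (.L 0x901c0900b)
  (.E)))))
  (.B (.B (.B (.B (.L 0x403032)
  (.L 0x20781a3033))
  (.B (.L 0x100c0d013)
  (.E)))
  (.B (.B (.L 0xc0d01b)
  (.E))
  (.B (.L 0x18c0903b)
  (.E))))
  (.B (.B (.B (.L 0xe3013)
  (.E))
  (.B (.L 0x680a302b)
  (.E)))
  (.B (.B (.L 0x2c0d03b)
  (.E))
  (.B (.L 0x71806301b)
  (.E)))))))))
  (.B (.B (.B (.B (.B (.B (.B (.B (.L 0x31)
  (.L 0x31812301b))
  (.B (.L 0x580a300b)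
  (.E)))
  (.B (.B (.L 0x40d01b)
  (.E))
  (.B (.L 0x481a302b)
  (.E))))
  (.B (.B (.B (.L 0x346018a)
  (.L 0x20180a303b))
  (.B (.L 0x280a301b)
  (.E)))
  (.B (.B (.L 0x1403023)
  (.E))
  (.B (.L 0x68c0f03b)
  (.E)))))
  (.B (.B (.B (.B (.L 0x46048a)
  (.L 0x230340b023))
  (.B (.L 0x1180a3013)
  (.E)))
  (.B (.B (.L 0x8c03013)
  (.E))
  (.B (.L 0x48c05033)
  (.E))))
  (.B (.B (.B (.L 0x1180e038a)
  (.L 0x1e0780a301b))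
  (.B (.L 0x380e3023)
  (.E)))
  (.B (.B (.L 0x2403033)
  (.E))
  (.B (.L 0x518063013)
  (.E))))))
  (.B (.B (.B (.B (.B (.L 0x2301a)
  (.L 0xf18063023))
  (.B (.L 0x28c0700b)
  (.E)))
  (.B (.B (.L 0x81e300b)
  (.E))
  (.B (.L 0x28c0f02b)
  (.E))))
  (.B (.B (.B (.L 0x246078a)
  (.L 0x160281e300b))
  (.B (.L 0x28c0701b)
  (.E)))
  (.B (.B (.L 0x1c0302b)
  (.E))
  (.B (.L 0x5181e300b)
  (.E)))))
  (.B (.B (.B (.B (.L 0x1e301a)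
  (.L 0x2302c0f02b))
  (.B (.L 0x68c05013)
  (.E)))
  (.B (.B (.L 0xc0301b)
  (.E))
  (.B (.L 0x2812303b)
  (.E))))
  (.B (.B (.B (.L 0x2302b)
  (.E))
  (.B (.L 0x78c09023)
  (.E)))
  (.B (.B (.L 0x2c0303b)
  (.E))
  (.B (.L 0xd181e3013)
  (.E)))))))
  (.B (.B (.B (.B (.B (.B (.L 0x68a)
  (.L 0x20381e301b))
  (.B (.L 0x581a300b)
  (.E)))
  (.B (.B (.L 0xe3033)
  (.E))
  (.B (.L 0x10340502b)
  (.E))))
  (.B (.B (.B (.L 0x2c6048a)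
  (.L 0x2058c0703b))
  (.B (.L 0x381a301b)
  (.E)))
  (.B (.B (.L 0x140b023)
  (.E))
  (.B (.L 0x20480e300b)
  (.E)))))
  (.B (.B (.B (.B (.L 0x6300a)
  (.L 0x9181a302b))
  (.B (.L 0x1181a3013)
  (.E)))
  (.B (.B (.L 0x8c0b013)
  (.E))
  (.B (.L 0x38c0f033)
  (.E))))
  (.B (.B (.B (.L 0x2300b)
  (.E))
  (.B (.L 0x681e3023)
  (.E)))
  (.B (.B (.L 0x240b033)
  (.E))
  (.B (.L 0xb18123013)
  (.E))))))
  (.B (.B (.B (.B (.B (.L 0x2303a)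
  (.L 0x2048163023))
  (.B (.L 0x103c0b00b)
  (.E)))
  (.B (.B (.L 0x3c0900b)
  (.E))
  (.B (.L 0x38123033)
  (.E))))
  (.B (.B (.B (.L 0x8c0901a)
  (.L 0x6028c0f00b))
  (.B (.L 0x10240d01b)
  (.E)))
  (.B (.B (.L 0x1c0b02b)
  (.E))
  (.B (.L 0x700c0900b)
  (.E)))))
  (.B (.B (.B (.B (.L 0x40f02a)
  (.L 0x318163033))
  (.B (.L 0x10340b013)
  (.E)))
  (.B (.B (.L 0xc0b01b)
  (.E))
  (.B (.L 0x18c0503b)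
  (.E))))
  (.B (.B (.B (.L 0x40500b)
  (.E))
  (.B (.L 0x5806302b)
  (.E)))
  (.B (.B (.L 0x2c0b03b)
  (.E))
  (.B (.L 0x30140f013)
  (.E))))))))
  (.B (.B (.B (.B (.B (.B (.B (.L 0x20789)
  (.L 0x201816301b))
  (.B (.L 0x5812300b)
  (.E)))
  (.B (.B (.L 0x6302b)
  (.E))
  (.B (.L 0x58c0302b)
  (.E))))
  (.B (.B (.B (.L 0x81e028a)
  (.L 0x71816303b))
  (.B (.L 0x3812301b)
  (.E)))
  (.B (.B (.L 0x1407023)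
  (.E))
  (.B (.L 0x7180a300b)
  (.E)))))
  (.B (.B (.B (.B (.L 0x46068a)
  (.L 0x5180e302b))
  (.B (.L 0x118123013)
  (.E)))
  (.B (.B (.L 0x8c07013)
  (.E))
  (.B (.L 0x18c0b033)
  (.E))))
  (.B (.B (.B (.L 0x20381e038a)
  (.L 0x81a01816301b))
  (.B (.L 0x58163023)
  (.E)))
  (.B (.B (.L 0x2407033)
  (.E))
  (.B (.L 0x20280a3013)
  (.E))))))
  (.B (.B (.B (.B (.B (.L 0x2302a)
  (.L 0xb180e3023))
  (.B (.L 0x78c0900b)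
  (.E)))
  (.B (.B (.L 0x3c0500b)
  (.E))
  (.B (.L 0x280a3033)
  (.E))))
  (.B (.B (.B (.L 0x8c0b00a)
  (.L 0x12048c0700b))
  (.B (.L 0x48c0b01b)
  (.E)))
  (.B (.B (.L 0x1c0702b)
  (.E))
  (.B (.L 0xb00c0500b)
  (.E)))))
  (.B (.B (.B (.B (.L 0x407022)
  (.L 0x5180e3033))
  (.B (.L 0x48c09013)
  (.E)))
  (.B (.B (.L 0xc0701b)
  (.E))
  (.B (.L 0x681a303b)
  (.E))))
  (.B (.B (.B (.L 0x2303b)
  (.E))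
  (.B (.L 0x48c0d023)
  (.E)))
  (.B (.B (.L 0x2c0703b)
  (.E))
  (.B (.L 0x702c09013)
  (.E)))))))
  (.B (.B (.B (.B (.B (.B (.L 0x2300a)
  (.L 0xb0140d01b))
  (.B (.L 0x68c0300b)
  (.E)))
  (.B (.B (.L 0x16303b)
  (.E))
  (.B (.L 0x101c0902b)
  (.E))))
  (.B (.B (.B (.L 0x80e058a)
  (.L 0x1a0680e300b))
  (.B (.L 0x68c0301b)
  (.E)))
  (.B (.B (.L 0x140f023)
  (.E))
  (.B (.L 0xd1816300b)
  (.E)))))
  (.B (.B (.B (.B (.L 0x123012)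
  (.L 0x20581e302b))
  (.B (.L 0x18c03013)
  (.E)))
  (.B (.B (.L 0x8c0f013)
  (.E))
  (.B (.L 0x280a303b)
  (.E))))
  (.B (.B (.B (.L 0x2301b)
  (.E))
  (.B (.L 0x100c05023)
  (.E)))
  (.B (.B (.L 0x240f033)
  (.E))
  (.B (.L 0x3181a3013)
  (.E))))))
  (.B (.B (.B (.B (.B (.L 0x46028a)
  (.L 0x20681e3023))
  (.B (.L 0x48c0f00b)
  (.E)))
  (.B (.B (.L 0x3c0d00b)
  (.E))
  (.B (.L 0x681a3033)
  (.E))))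
  (.B (.B (.B (.L 0x8c0703a)
  (.L 0x1a038163013))
  (.B (.L 0x38063023)
  (.E)))
  (.B (.B (.L 0x1c0f02b)
  (.E))
  (.B (.L 0x500c0d00b)
  (.E)))))
  (.B (.B (.B (.B (.L 0xe303a)
  (.L 0x2028c07033))
  (.B (.L 0x78c0f013)
  (.E)))
  (.B (.B (.L 0xc0f01b)
  (.E))
  (.B (.L 0x103c0903b)
  (.E))))
  (.B (.B (.B (.L 0x409013)
  (.E))
  (.B (.L 0x1812302b)
  (.E)))
  (.B (.B (.L 0x2c0f03b)
  (.E))
  (.B (.L 0x7180a301b)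
  (.E))))))))))
  (.B (.B (.B (.B (.B (.B (.B (.B (.B (.L 0x11)
  (.L 0xb180e301b))
  (.B (.L 0x180a300b)
  (.E)))
  (.B (.B (.L 0x40501b)
  (.E))
  (.B (.L 0x1181a302b)
  (.E))))
  (.B (.B (.B (.L 0x146018a)
  (.L 0x7180a303b))
  (.B (.L 0x6806301b)
  (.E)))
  (.B (.B (.L 0x81a3023)
  (.E))
  (.B (.L 0x48c0d03b)
  (.E)))))
  (.B (.B (.B (.B (.L 0x12038a)
  (.L 0xf00c07023))
  (.B (.L 0x48063013)
  (.E)))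
  (.B (.B (.L 0x8123013)
  (.E))
  (.B (.L 0x78c03033)
  (.E))))
  (.B (.B (.B (.L 0x1180a028a)
  (.L 0x1e038c0d013))
  (.B (.L 0x780a3023)
  (.E)))
  (.B (.B (.L 0x8c03033)
  (.E))
  (.B (.L 0xf02c0d00b)
  (.E))))))
  (.B (.B (.B (.B (.B (.L 0x9012)
  (.L 0x718063023))
  (.B (.L 0x102c0500b)
  (.E)))
  (.B (.B (.L 0x80e300b)
  (.E))
  (.B (.L 0x48c0d02b)
  (.E))))
  (.B (.B (.B (.L 0x81e068a)
  (.L 0x1206816300b))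
  (.B (.L 0x10240501b)
  (.E)))
  (.B (.B (.L 0x81e302b)
  (.E))
  (.B (.L 0xd181a300b)
  (.E)))))
  (.B (.B (.B (.B (.L 0xe301a)
  (.L 0x2018c0d02b))
  (.B (.L 0x28c05013)
  (.E)))
  (.B (.B (.L 0x816301b)
  (.E))
  (.B (.L 0x680e303b)
  (.E))))
  (.B (.B (.B (.L 0x9023)
  (.E))
  (.B (.L 0x18c09023)
  (.E)))
  (.B (.B (.L 0xc0303b)
  (.E))
  (.B (.L 0x5181e3013)
  (.E)))))))
  (.B (.B (.B (.B (.B (.B (.L 0x28a)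
  (.L 0x9181e301b))
  (.B (.L 0x181a300b)
  (.E)))
  (.B (.B (.L 0x40d02b)
  (.E))
  (.B (.L 0x78c0502b)
  (.E))))
  (.B (.B (.B (.L 0xc6048a)
  (.L 0x230140303b))
  (.B (.L 0x7816301b)
  (.E)))
  (.B (.B (.L 0x3409023)
  (.E))
  (.B (.L 0xd180e300b)
  (.E)))))
  (.B (.B (.B (.B (.L 0x12078a)
  (.L 0x31816302b))
  (.B (.L 0x48163013)
  (.E)))
  (.B (.B (.L 0x2409013)
  (.E))
  (.B (.L 0x68c0d033)
  (.E))))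
  (.B (.B (.B (.L 0x1023)
  (.E))
  (.B (.L 0x281e3023)
  (.E)))
  (.B (.B (.L 0x8c0b033)
  (.E))
  (.B (.L 0x20680e3013)
  (.E))))))
  (.B (.B (.B (.B (.B (.L 0x9032)
  (.L 0x918163023))
  (.B (.L 0x78c0b00b)
  (.E)))
  (.B (.B (.L 0x1c0900b)
  (.E))
  (.B (.L 0x780e3033)
  (.E))))
  (.B (.B (.B (.L 0x3c0b012)
  (.L 0x1e068c0b00b))
  (.B (.L 0x78c0d01b)
  (.E)))
  (.B (.B (.L 0x3c0902b)
  (.E))
  (.B (.L 0x2048c0700b)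
  (.E)))))
  (.B (.B (.B (.B (.L 0x40502a)
  (.L 0x2048123033))
  (.B (.L 0x68c0b013)
  (.E)))
  (.B (.B (.L 0x2c0901b)
  (.E))
  (.B (.L 0x68c0303b)
  (.E))))
  (.B (.B (.B (.L 0x16300b)
  (.E))
  (.B (.L 0x10140f023)
  (.E)))
  (.B (.B (.L 0xc0b03b)
  (.E))
  (.B (.L 0x700c0f013)
  (.E))))))))
  (.B (.B (.B (.B (.B (.B (.B (.L 0x20389)
  (.L 0x71816301b))
  (.B (.L 0x1812300b)
  (.E)))
  (.B (.B (.L 0x409023)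
  (.E))
  (.B (.L 0x18c0302b)
  (.E))))
  (.B (.B (.B (.L 0x3c6028a)
  (.L 0x51812303b))
  (.B (.L 0x780e301b)
  (.E)))
  (.B (.B (.L 0x3405023)
  (.E))
  (.B (.L 0x204806300b)
  (.E)))))
  (.B (.B (.B (.B (.L 0x12058a)
  (.L 0x9180a302b))
  (.B (.L 0x480e3013)
  (.E)))
  (.B (.B (.L 0x2405013)
  (.E))
  (.B (.L 0x28c09033)
  (.E))))
  (.B (.B (.B (.L 0x20181a018a)
  (.L 0x806300c0300b))
  (.B (.L 0x118163023)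
  (.E)))
  (.B (.B (.L 0x8c07033)
  (.E))
  (.B (.L 0x7180a3013)
  (.E))))))
  (.B (.B (.B (.B (.B (.L 0x9022)
  (.L 0x20580a3023))
  (.B (.L 0x38c0900b)
  (.E)))
  (.B (.B (.L 0x1c0500b)
  (.E))
  (.B (.L 0x68063033)
  (.E))))
  (.B (.B (.B (.L 0x140700a)
  (.L 0xe028c0700b))
  (.B (.L 0x78c0901b)
  (.E)))
  (.B (.B (.L 0x3c0502b)
  (.E))
  (.B (.L 0x300c0300b)
  (.E)))))
  (.B (.B (.B (.B (.L 0x1a3022)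
  (.L 0xb180a3033))
  (.B (.L 0x103c07013)
  (.E)))
  (.B (.B (.L 0x2c0501b)
  (.E))
  (.B (.L 0x281a303b)
  (.E))))
  (.B (.B (.B (.L 0x9033)
  (.E))
  (.B (.L 0x10340b023)
  (.E)))
  (.B (.B (.L 0xc0703b)
  (.E))
  (.B (.L 0xb01409013)
  (.E)))))))
  (.B (.B (.B (.B (.B (.B (.L 0x2048a)
  (.L 0x2300c0d01b))
  (.B (.L 0x28c0300b)
  (.E)))
  (.B (.B (.L 0x6303b)
  (.E))
  (.B (.L 0x28c0902b)
  (.E))))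
  (.B (.B (.B (.L 0x346058a)
  (.L 0x460680e300b))
  (.B (.L 0x28c0301b)
  (.E)))
  (.B (.B (.L 0x340d023)
  (.E))
  (.B (.L 0x51816300b)
  (.E)))))
  (.B (.B (.B (.B (.L 0x40f00a)
  (.L 0xf181e302b))
  (.B (.L 0x481e3013)
  (.E)))
  (.B (.B (.L 0x240d013)
  (.E))
  (.B (.L 0x5806303b)
  (.E))))
  (.B (.B (.B (.L 0x9013)
  (.E))
  (.B (.L 0x48c05023)
  (.E)))
  (.B (.B (.L 0x8c0f033)
  (.E))
  (.B (.L 0x2028163013)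
  (.E))))))
  (.B (.B (.B (.B (.B (.L 0x12018a)
  (.L 0xf181e3023))
  (.B (.L 0x102c0d00b)
  (.E)))
  (.B (.B (.L 0x1c0d00b)
  (.E))
  (.B (.L 0x1181a3033)
  (.E))))
  (.B (.B (.B (.L 0x8c07032)
  (.L 0x40b18123013))
  (.B (.L 0x102c0f01b)
  (.E)))
  (.B (.B (.L 0x3c0d02b)
  (.E))
  (.B (.L 0x2048c0b00b)
  (.E)))))
  (.B (.B (.B (.B (.L 0x40b032)
  (.L 0xf181e3033))
  (.B (.L 0x38c0f013)
  (.E)))
  (.B (.B (.L 0x2c0d01b)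
  (.E))
  (.B (.L 0x58c0903b)
  (.E))))
  (.B (.B (.B (.L 0x1e3013)
  (.E))
  (.B (.L 0x480e302b)
  (.E)))
  (.B (.B (.L 0xc0f03b)
  (.E))
  (.B (.L 0xf1806301b)
  (.E)))))))))
  (.B (.B (.B (.B (.B (.B (.B (.B (.L 0x289)
  (.L 0xb1812301b))
  (.B (.L 0x180e300b)
  (.E)))
  (.B (.B (.L 0xe3023)
  (.E))
  (.B (.L 0x1181e302b)
  (.E))))
  (.B (.B (.B (.L 0x812018a)
  (.L 0x5180e303b))
  (.B (.L 0x680a301b)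
  (.E)))
  (.B (.B (.L 0x3403023)
  (.E))
  (.B (.L 0x51806300b)
  (.E)))))
  (.B (.B (.B (.B (.L 0x12048a)
  (.L 0x31806302b))
  (.B (.L 0x480a3013)
  (.E)))
  (.B (.B (.L 0x2403013)
  (.E))
  (.B (.L 0x101c05033)
  (.E))))
  (.B (.B (.B (.L 0x11812048a)
  (.L 0x1a01816301b))
  (.B (.L 0x780e3023)
  (.E)))
  (.B (.B (.L 0x8c05033)
  (.E))
  (.B (.L 0xd18063013)
  (.E))))))
  (.B (.B (.B (.B (.B (.L 0x901a)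
  (.L 0x3180a3023))
  (.B (.L 0x68c0700b)
  (.E)))
  (.B (.B (.L 0x1c0300b)
  (.E))
  (.B (.L 0x100c0f02b)
  (.E))))
  (.B (.B (.B (.L 0x806078a)
  (.L 0x160481e300b))
  (.B (.L 0x78c0701b)
  (.E)))
  (.B (.B (.L 0x3c0302b)
  (.E))
  (.B (.L 0xf181e300b)
  (.E)))))
  (.B (.B (.B (.B (.L 0x40b01a)
  (.L 0xd18063033))
  (.B (.L 0x38c07013)
  (.E)))
  (.B (.B (.L 0x2c0301b)
  (.E))
  (.B (.L 0x11816303b)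
  (.E))))
  (.B (.B (.B (.L 0x902b)
  (.E))
  (.B (.L 0x38c0b023)
  (.E)))
  (.B (.B (.L 0xc0503b)
  (.E))
  (.B (.L 0x2078c03013)
  (.E)))))))
  (.B (.B (.B (.B (.B (.B (.L 0x101a)
  (.L 0x2068c0501b))
  (.B (.L 0x181e300b)
  (.E)))
  (.B (.B (.L 0x1e3033)
  (.E))
  (.B (.L 0x48c0702b)
  (.E))))
  (.B (.B (.B (.L 0x812048a)
  (.L 0x2048c0d03b))
  (.B (.L 0x1181e301b)
  (.E)))
  (.B (.B (.L 0x340b023)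
  (.E))
  (.B (.L 0x51812300b)
  (.E)))))
  (.B (.B (.B (.B (.L 0x16300a)
  (.L 0x20181a302b))
  (.B (.L 0x481a3013)
  (.E)))
  (.B (.B (.L 0x240b013)
  (.E))
  (.B (.L 0x78c0f033)
  (.E))))
  (.B (.B (.B (.L 0x900b)
  (.E))
  (.B (.L 0x48c03023)
  (.E)))
  (.B (.B (.L 0x8c0d033)
  (.E))
  (.B (.L 0x2058123013)
  (.E))))))
  (.B (.B (.B (.B (.B (.L 0x903a)
  (.L 0xd181a3023))
  (.B (.L 0x48c0d00b)
  (.E)))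
  (.B (.B (.L 0x1c0b00b)
  (.E))
  (.B (.L 0x78123033)
  (.E))))
  (.B (.B (.B (.L 0x8c05022)
  (.L 0x1e028c0f00b))
  (.B (.L 0x38c0f01b)
  (.E)))
  (.B (.B (.L 0x3c0b02b)
  (.E))
  (.B (.L 0x230140900b)
  (.E)))))
  (.B (.B (.B (.B (.L 0x123032)
  (.L 0xf18163033))
  (.B (.L 0x48c0d013)
  (.E)))
  (.B (.B (.L 0x2c0b01b)
  (.E))
  (.B (.L 0x28c0703b)
  (.E))))
  (.B (.B (.B (.L 0x40d00b)
  (.E))
  (.B (.L 0x180a302b)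
  (.E)))
  (.B (.B (.L 0xc0d03b)
  (.E))
  (.B (.L 0x2301c0f013)
  (.E))))))))
  (.B (.B (.B (.B (.B (.B (.B (.L 0x12)
  (.L 0x207816301b))
  (.B (.L 0x1816300b)
  (.E)))
  (.B (.B (.L 0x16302b)
  (.E))
  (.B (.L 0x102c0302b)
  (.E))))
  (.B (.B (.B (.L 0x246038a)
  (.L 0x3181a303b))
  (.B (.L 0x7812301b)
  (.E)))
  (.B (.B (.L 0x3407023)
  (.E))
  (.B (.L 0xf180a300b)
  (.E)))))
  (.B (.B (.B (.B (.L 0x12068a)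
  (.L 0x20780e302b))
  (.B (.L 0x48123013)
  (.E)))
  (.B (.B (.L 0x2407013)
  (.E))
  (.B (.L 0x58c0b033)
  (.E))))
  (.B (.B (.B (.L 0x1b)
  (.E))
  (.B (.L 0x181a3023)
  (.E)))
  (.B (.B (.L 0x8c09033)
  (.E))
  (.B (.L 0x3180e3013)
  (.E))))))
  (.B (.B (.B (.B (.B (.L 0x902a)
  (.L 0x518123023))
  (.B (.L 0x10340900b)
  (.E)))
  (.B (.B (.L 0x1c0700b)
  (.E))
  (.B (.L 0x780a3033)
  (.E))))
  (.B (.B (.B (.L 0x3c0d00a)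
  (.L 0x12301c0900b))
  (.B (.L 0x101c0b01b)
  (.E)))
  (.B (.B (.L 0x3c0702b)
  (.E))
  (.B (.L 0x230340500b)
  (.E)))))
  (.B (.B (.B (.B (.L 0x6302a)
  (.L 0x20280e3033))
  (.B (.L 0x100c09013)
  (.E)))
  (.B (.B (.L 0x2c0701b)
  (.E))
  (.B (.L 0x481e303b)
  (.E))))
  (.B (.B (.B (.L 0x903b)
  (.E))
  (.B (.L 0x10240d023)
  (.E)))
  (.B (.B (.L 0xc0903b)
  (.E))
  (.B (.L 0x2048c0b013)
  (.E)))))))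
  (.B (.B (.B (.B (.B (.B (.L 0x900a)
  (.L 0xf01c0d01b))
  (.B (.L 0x28c0500b)
  (.E)))
  (.B (.B (.L 0x40503b)
  (.E))
  (.B (.L 0x38c0b02b)
  (.E))))
  (.B (.B (.B (.L 0x1c6068a)
  (.L 0x1a01816300b))
  (.B (.L 0x103c0301b)
  (.E)))
  (.B (.B (.L 0x340f023)
  (.E))
  (.B (.L 0x203816300b)
  (.E)))))
  (.B (.B (.B (.B (.L 0x403012)
  (.L 0x230240502b))
  (.B (.L 0x58c03013)
  (.E)))
  (.B (.B (.L 0x240f013)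
  (.E))
  (.B (.L 0x680a303b)
  (.E))))
  (.B (.B (.B (.L 0x901b)
  (.E))
  (.B (.L 0x38c07023)
  (.E)))
  (.B (.B (.L 0x806303b)
  (.E))
  (.B (.L 0xb181a3013)
  (.E))))))
  (.B (.B (.B (.B (.B (.L 0x12028a)
  (.L 0x2302403023))
  (.B (.L 0x100c0f00b)
  (.E)))
  (.B (.B (.L 0x1c0f00b)
  (.E))
  (.B (.L 0x381e3033)
  (.E))))
  (.B (.B (.B (.L 0x1806018a)
  (.L 0x40b01409013))
  (.B (.L 0x78063023)
  (.E)))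
  (.B (.B (.L 0x3c0f02b)
  (.E))
  (.B (.L 0xd00c0d00b)
  (.E)))))
  (.B (.B (.B (.B (.L 0x1e303a)
  (.L 0x2300c0b033))
  (.B (.L 0x10240f013)
  (.E)))
  (.B (.B (.L 0x2c0f01b)
  (.E))
  (.B (.L 0x48c0b03b)
  (.E))))
  (.B (.B (.B (.L 0x6301b)
  (.E))
  (.B (.L 0x5812302b)
  (.E)))
  (.B (.B (.L 0x1806300b)
  (.E))
  (.B (.L 0xf180a301b)
  (.E)))))))))))
  (.B (.B (.B (.B (.B (.B (.B (.B (.B (.B (.L 0x89)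
  (.L 0x5180e301b))
  (.B (.L 0x7806300b)
  (.E)))
  (.B (.B (.L 0x1e301b)
  (.E))
  (.B (.L 0x3816302b)
  (.E))))
  (.B (.B (.B (.L 0x40d03a)
  (.L 0xb1806303b))
  (.B (.L 0x4806301b)
  (.E)))
  (.B (.B (.L 0x8123023)
  (.E))
  (.B (.L 0x18c0d03b)
  (.E)))))
  (.B (.B (.B (.B (.L 0xa038a)
  (.L 0xb00c07023))
  (.B (.L 0x28063013)
  (.E)))
  (.B (.B (.L 0x80a3013)
  (.E))
  (.B (.L 0x58c03033)
  (.E))))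
  (.B (.B (.B (.L 0x281a018a)
  (.L 0x6038c0d013))
  (.B (.L 0x580a3023)
  (.E)))
  (.B (.B (.L 0x81a3033)
  (.E))
  (.B (.L 0x902c0d00b)
  (.E))))))
  (.B (.B (.B (.B (.B (.L 0x5012)
  (.L 0x2302c0f01b))
  (.B (.L 0x100c0500b)
  (.E)))
  (.B (.B (.L 0x806300b)
  (.E))
  (.B (.L 0x18c0d02b)
  (.E))))
  (.B (.B (.B (.L 0x816068a)
  (.L 0x1e02816300b))
  (.B (.L 0x78c0501b)
  (.E)))
  (.B (.B (.L 0x816302b)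
  (.E))
  (.B (.L 0x9181a300b)
  (.E)))))
  (.B (.B (.B (.B (.L 0x6301a)
  (.L 0x2302c0902b))
  (.B (.L 0x103403013)
  (.E)))
  (.B (.B (.L 0x80e301b)
  (.E))
  (.B (.L 0x480e303b)
  (.E))))
  (.B (.B (.B (.L 0x5023)
  (.E))
  (.B (.L 0x101407023)
  (.E)))
  (.B (.B (.L 0x81e303b)
  (.E))
  (.B (.L 0x20781a3013)
  (.E)))))))
  (.B (.B (.B (.B (.B (.B (.L 0x108a)
  (.L 0xf181a301b))
  (.B (.L 0x7816300b)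
  (.E)))
  (.B (.B (.L 0x40902b)
  (.E))
  (.B (.L 0x58c0502b)
  (.E))))
  (.B (.B (.B (.L 0x81a038a)
  (.L 0x20781a303b))
  (.B (.L 0x5816301b)
  (.E)))
  (.B (.B (.L 0x2409023)
  (.E))
  (.B (.L 0x9180e300b)
  (.E)))))
  (.B (.B (.B (.B (.L 0xa078a)
  (.L 0x203812302b))
  (.B (.L 0x28163013)
  (.E)))
  (.B (.B (.L 0x1409013)
  (.E))
  (.B (.L 0x38c0d033)
  (.E))))
  (.B (.B (.B (.L 0x1013)
  (.E))
  (.B (.L 0x1181e3023)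
  (.E)))
  (.B (.B (.L 0x3409033)
  (.E))
  (.B (.L 0xf180e3013)
  (.E))))))
  (.B (.B (.B (.B (.B (.L 0x5032)
  (.L 0x318163023))
  (.B (.L 0x58c0b00b)
  (.E)))
  (.B (.B (.L 0xc0900b)
  (.E))
  (.B (.L 0x580e3033)
  (.E))))
  (.B (.B (.B (.L 0x8c0b012)
  (.L 0x16068c0b00b))
  (.B (.L 0x58c0d01b)
  (.E)))
  (.B (.B (.L 0x2c0902b)
  (.E))
  (.B (.L 0xd03c0500b)
  (.E)))))
  (.B (.B (.B (.B (.L 0x1e302a)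
  (.L 0xb18123033))
  (.B (.L 0x38c0b013)
  (.E)))
  (.B (.B (.L 0x1c0901b)
  (.E))
  (.B (.L 0x48c0303b)
  (.E))))
  (.B (.B (.B (.L 0xe300b)
  (.E))
  (.B (.L 0x58c0f023)
  (.E)))
  (.B (.B (.L 0x3c0903b)
  (.E))
  (.B (.L 0x2300c0f013)
  (.E))))))))
  (.B (.B (.B (.B (.B (.B (.B (.L 0x20189)
  (.L 0x31816301b))
  (.B (.L 0x780e300b)
  (.E)))
  (.B (.B (.L 0x405023)
  (.E))
  (.B (.L 0x681e302b)
  (.E))))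
  (.B (.B (.B (.L 0x2c6028a)
  (.L 0x20780e303b))
  (.B (.L 0x580e301b)
  (.E)))
  (.B (.B (.L 0x2405023)
  (.E))
  (.B (.L 0x201806300b)
  (.E)))))
  (.B (.B (.B (.B (.L 0xa058a)
  (.L 0x3180a302b))
  (.B (.L 0x280e3013)
  (.E)))
  (.B (.B (.L 0x1405013)
  (.E))
  (.B (.L 0x78c07033)
  (.E))))
  (.B (.B (.B (.L 0x20180a018a)
  (.L 0x81202816300b))
  (.B (.L 0x68123023)
  (.E)))
  (.B (.B (.L 0x3405033)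
  (.E))
  (.B (.L 0x3180a3013)
  (.E))))))
  (.B (.B (.B (.B (.B (.L 0x5022)
  (.L 0x20380a3023))
  (.B (.L 0x18c0900b)
  (.E)))
  (.B (.B (.L 0xc0500b)
  (.E))
  (.B (.L 0x48063033)
  (.E))))
  (.B (.B (.B (.L 0x3c0500a)
  (.L 0xa303c0500b))
  (.B (.L 0x58c0901b)
  (.E)))
  (.B (.B (.L 0x2c0502b)
  (.E))
  (.B (.L 0x2018c0300b)
  (.E)))))
  (.B (.B (.B (.B (.L 0x123022)
  (.L 0x5180a3033))
  (.B (.L 0x102407013)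
  (.E)))
  (.B (.B (.L 0x1c0501b)
  (.E))
  (.B (.L 0x1181a303b)
  (.E))))
  (.B (.B (.B (.L 0x5033)
  (.E))
  (.B (.L 0x101c0b023)
  (.E)))
  (.B (.B (.L 0x3c0503b)
  (.E))
  (.B (.L 0x301409013)
  (.E)))))))
  (.B (.B (.B (.B (.B (.B (.L 0x2028a)
  (.L 0x2078c0b01b))
  (.B (.L 0x781e300b)
  (.E)))
  (.B (.B (.L 0x40d033)
  (.E))
  (.B (.L 0x103c0702b)
  (.E))))
  (.B (.B (.B (.L 0x246058a)
  (.L 0xa0480e300b))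
  (.B (.L 0x781e301b)
  (.E)))
  (.B (.B (.L 0x240d023)
  (.E))
  (.B (.L 0x201812300b)
  (.E)))))
  (.B (.B (.B (.B (.L 0x40b00a)
  (.L 0xb181e302b))
  (.B (.L 0x281e3013)
  (.E)))
  (.B (.B (.L 0x140d013)
  (.E))
  (.B (.L 0x2806303b)
  (.E))))
  (.B (.B (.B (.L 0x5013)
  (.E))
  (.B (.L 0x18c05023)
  (.E)))
  (.B (.B (.L 0x340d033)
  (.E))
  (.B (.L 0xf18163013)
  (.E))))))
  (.B (.B (.B (.B (.B (.L 0xa018a)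
  (.L 0x9181e3023))
  (.B (.L 0x101c0d00b)
  (.E)))
  (.B (.B (.L 0xc0d00b)
  (.E))
  (.B (.L 0x68163033)
  (.E))))
  (.B (.B (.B (.L 0x81a3032)
  (.L 0x16048063013))
  (.B (.L 0x10140f01b)
  (.E)))
  (.B (.B (.L 0x2c0d02b)
  (.E))
  (.B (.L 0xd01c0900b)
  (.E)))))
  (.B (.B (.B (.B (.L 0x407032)
  (.L 0x7181e3033))
  (.B (.L 0x18c0f013)
  (.E)))
  (.B (.B (.L 0x1c0d01b)
  (.E))
  (.B (.L 0x38c0903b)
  (.E))))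
  (.B (.B (.B (.L 0x163013)
  (.E))
  (.B (.L 0x280e302b)
  (.E)))
  (.B (.B (.L 0x3c0d03b)
  (.E))
  (.B (.L 0xb1806301b)
  (.E)))))))))
  (.B (.B (.B (.B (.B (.B (.B (.B (.L 0x1089)
  (.L 0x71812301b))
  (.B (.L 0x780a300b)
  (.E)))
  (.B (.B (.L 0x63023)
  (.E))
  (.B (.L 0x681a302b)
  (.E))))
  (.B (.B (.B (.L 0x806018a)
  (.L 0x20780a303b))
  (.B (.L 0x480a301b)
  (.E)))
  (.B (.B (.L 0x2403023)
  (.E))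
  (.B (.L 0x103c0f03b)
  (.E)))))
  (.B (.B (.B (.B (.L 0xa048a)
  (.L 0x2038c0f023))
  (.B (.L 0x280a3013)
  (.E)))
  (.B (.B (.L 0x1403013)
  (.E))
  (.B (.L 0x68c05033)
  (.E))))
  (.B (.B (.B (.L 0x781a038a)
  (.L 0x1201816301b))
  (.B (.L 0x580e3023)
  (.E)))
  (.B (.B (.L 0x3403033)
  (.E))
  (.B (.L 0x918063013)
  (.E))))))
  (.B (.B (.B (.B (.B (.L 0x501a)
  (.L 0x2048063023))
  (.B (.L 0x48c0700b)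
  (.E)))
  (.B (.B (.L 0xc0300b)
  (.E))
  (.B (.L 0x58c0f02b)
  (.E))))
  (.B (.B (.B (.L 0x346078a)
  (.L 0xe0481e300b))
  (.B (.L 0x48c0701b)
  (.E)))
  (.B (.B (.L 0x2c0302b)
  (.E))
  (.B (.L 0xb181e300b)
  (.E)))))
  (.B (.B (.B (.B (.L 0x40501a)
  (.L 0x718063033))
  (.B (.L 0x18c07013)
  (.E)))
  (.B (.B (.L 0x1c0301b)
  (.E))
  (.B (.L 0x6812303b)
  (.E))))
  (.B (.B (.B (.L 0x502b)
  (.E))
  (.B (.L 0x18c0b023)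
  (.E)))
  (.B (.B (.L 0x3c0303b)
  (.E))
  (.B (.L 0x20281e3013)
  (.E)))))))
  (.B (.B (.B (.B (.B (.B (.L 0x100a)
  (.L 0x2303c0301b))
  (.B (.L 0x781a300b)
  (.E)))
  (.B (.B (.L 0x163033)
  (.E))
  (.B (.L 0x28c0702b)
  (.E))))
  (.B (.B (.B (.L 0x3c6048a)
  (.L 0x2301c0b03b))
  (.B (.L 0x681a301b)
  (.E)))
  (.B (.B (.L 0x240b023)
  (.E))
  (.B (.L 0x20780e300b)
  (.E)))))
  (.B (.B (.B (.B (.L 0xe300a)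
  (.L 0xd181a302b))
  (.B (.L 0x281a3013)
  (.E)))
  (.B (.B (.L 0x140b013)
  (.E))
  (.B (.L 0x58c0f033)
  (.E))))
  (.B (.B (.B (.L 0x500b)
  (.E))
  (.B (.L 0x28c03023)
  (.E)))
  (.B (.B (.L 0x340b033)
  (.E))
  (.B (.L 0xf18123013)
  (.E))))))
  (.B (.B (.B (.B (.B (.L 0x503a)
  (.L 0x7181a3023))
  (.B (.L 0x28c0d00b)
  (.E)))
  (.B (.B (.L 0xc0b00b)
  (.E))
  (.B (.L 0x58123033)
  (.E))))
  (.B (.B (.B (.L 0x8123022)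
  (.L 0xe028c0f00b))
  (.B (.L 0x18c0f01b)
  (.E)))
  (.B (.B (.L 0x2c0b02b)
  (.E))
  (.B (.L 0xd00c0900b)
  (.E)))))
  (.B (.B (.B (.B (.L 0xa3032)
  (.L 0x918163033))
  (.B (.L 0x28c0d013)
  (.E)))
  (.B (.B (.L 0x1c0b01b)
  (.E))
  (.B (.L 0x68c0503b)
  (.E))))
  (.B (.B (.B (.L 0x40900b)
  (.E))
  (.B (.L 0x7806302b)
  (.E)))
  (.B (.B (.L 0x3c0b03b)
  (.E))
  (.B (.L 0xd0140f013)
  (.E))))))))
  (.B (.B (.B (.B (.B (.B (.B (.L 0x8a)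
  (.L 0x203816301b))
  (.B (.L 0x7812300b)
  (.E)))
  (.B (.B (.L 0xe302b)
  (.E))
  (.B (.L 0x78c0302b)
  (.E))))
  (.B (.B (.B (.L 0x146038a)
  (.L 0xb1816303b))
  (.B (.L 0x5812301b)
  (.E)))
  (.B (.B (.L 0x2407023)
  (.E))
  (.B (.L 0xb180a300b)
  (.E)))))
  (.B (.B (.B (.B (.L 0xa068a)
  (.L 0x9180e302b))
  (.B (.L 0x28123013)
  (.E)))
  (.B (.B (.L 0x1407013)
  (.E))
  (.B (.L 0x38c0b033)
  (.E))))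
  (.B (.B (.B (.L 0xb)
  (.E))
  (.B (.L 0x78163023)
  (.E)))
  (.B (.B (.L 0x3407033)
  (.E))
  (.B (.L 0x20480a3013)
  (.E))))))
  (.B (.B (.B (.B (.B (.L 0x502a)
  (.L 0xf180e3023))
  (.B (.L 0x10140900b)
  (.E)))
  (.B (.B (.L 0xc0700b)
  (.E))
  (.B (.L 0x580a3033)
  (.E))))
  (.B (.B (.B (.L 0x3c0b00a)
  (.L 0x1a048c0700b))
  (.B (.L 0x78c0b01b)
  (.E)))
  (.B (.B (.L 0x2c0702b)
  (.E))
  (.B (.L 0xf00c0500b)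
  (.E)))))
  (.B (.B (.B (.B (.L 0x40d022)
  (.L 0xb180e3033))
  (.B (.L 0x68c09013)
  (.E)))
  (.B (.B (.L 0x1c0701b)
  (.E))
  (.B (.L 0x1181e303b)
  (.E))))
  (.B (.B (.B (.L 0x503b)
  (.E))
  (.B (.L 0x68c0d023)
  (.E)))
  (.B (.B (.L 0x3c0703b)
  (.E))
  (.B (.L 0xd02c09013)
  (.E)))))))
  (.B (.B (.B (.B (.B (.B (.L 0x500a)
  (.L 0x501c0d01b))
  (.B (.L 0x100c0300b)
  (.E)))
  (.B (.B (.L 0x1e303b)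
  (.E))
  (.B (.L 0x10340902b)
  (.E))))
  (.B (.B (.B (.L 0xc6068a)
  (.L 0x4051812300b))
  (.B (.L 0x101c0301b)
  (.E)))
  (.B (.B (.L 0x240f023)
  (.E))
  (.B (.L 0x201816300b)
  (.E)))))
  (.B (.B (.B (.B (.L 0x1a3012)
  (.L 0x230340302b))
  (.B (.L 0x38c03013)
  (.E)))
  (.B (.B (.L 0x140f013)
  (.E))
  (.B (.L 0x480a303b)
  (.E))))
  (.B (.B (.B (.L 0x501b)
  (.E))
  (.B (.L 0x18c07023)
  (.E)))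
  (.B (.B (.L 0x340f033)
  (.E))
  (.B (.L 0x7181a3013)
  (.E))))))
  (.B (.B (.B (.B (.B (.L 0xa028a)
  (.L 0x2038c03023))
  (.B (.L 0x68c0f00b)
  (.E)))
  (.B (.B (.L 0xc0f00b)
  (.E))
  (.B (.L 0x1181e3033)
  (.E))))
  (.B (.B (.B (.L 0x100c6018a)
  (.L 0x160381a3013))
  (.B (.L 0x58063023)
  (.E)))
  (.B (.B (.L 0x2c0f02b)
  (.E))
  (.B (.L 0x900c0d00b)
  (.E)))))
  (.B (.B (.B (.B (.L 0x16303a)
  (.L 0x2028c09033))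
  (.B (.L 0x10140f013)
  (.E)))
  (.B (.B (.L 0x1c0f01b)
  (.E))
  (.B (.L 0x28c0b03b)
  (.E))))
  (.B (.B (.B (.L 0x40d013)
  (.E))
  (.B (.L 0x3812302b)
  (.E)))
  (.B (.B (.L 0x3c0f03b)
  (.E))
  (.B (.L 0xb180a301b)
  (.E))))))))))
  (.B (.B (.B (.B (.B (.B (.B (.B (.B (.L 0x21)
  (.L 0x20680e301b))
  (.B (.L 0x380a300b)
  (.E)))
  (.B (.B (.L 0x40901b)
  (.E))
  (.B (.L 0x281a302b)
  (.E))))
  (.B (.B (.B (.L 0x246018a)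
  (.L 0xd180a303b))
  (.B (.L 0x1180a301b)
  (.E)))
  (.B (.B (.L 0x8c03023)
  (.E))
  (.B (.L 0x28c0f03b)
  (.E)))))
  (.B (.B (.B (.B (.L 0x1a038a)
  (.L 0x2302409023))
  (.B (.L 0x68063013)
  (.E)))
  (.B (.B (.L 0x81a3013)
  (.E))
  (.B (.L 0x28c05033)
  (.E))))
  (.B (.B (.B (.L 0x281e028a)
  (.L 0x60780a301b))
  (.B (.L 0x180e3023)
  (.E)))
  (.B (.B (.L 0x1403033)
  (.E))
  (.B (.L 0x2068c0f00b)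
  (.E))))))
  (.B (.B (.B (.B (.B (.L 0xd012)
  (.L 0xb18063023))
  (.B (.L 0x103c0500b)
  (.E)))
  (.B (.B (.L 0x816300b)
  (.E))
  (.B (.L 0x68c0d02b)
  (.E))))
  (.B (.B (.B (.L 0x146078a)
  (.L 0xa0181e300b))
  (.B (.L 0x103c0501b)
  (.E)))
  (.B (.B (.L 0xc0302b)
  (.E))
  (.B (.L 0x20181a300b)
  (.E)))))
  (.B (.B (.B (.B (.L 0x16301a)
  (.L 0x2028c0f02b))
  (.B (.L 0x48c05013)
  (.E)))
  (.B (.B (.L 0x81e301b)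
  (.E))
  (.B (.L 0x11812303b)
  (.E))))
  (.B (.B (.B (.L 0xd023)
  (.E))
  (.B (.L 0x48c09023)
  (.E)))
  (.B (.B (.L 0x1c0303b)
  (.E))
  (.B (.L 0x9181e3013)
  (.E)))))))
  (.B (.B (.B (.B (.B (.B (.L 0x48a)
  (.L 0xd181e301b))
  (.B (.L 0x381a300b)
  (.E)))
  (.B (.B (.L 0x63033)
  (.E))
  (.B (.L 0x10240502b)
  (.E))))
  (.B (.B (.B (.L 0x1c6048a)
  (.L 0x2058c0503b))
  (.B (.L 0x181a301b)
  (.E)))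
  (.B (.B (.L 0x8c0b023)
  (.E))
  (.B (.L 0x20180e300b)
  (.E)))))
  (.B (.B (.B (.B (.L 0x1a078a)
  (.L 0xb1816302b))
  (.B (.L 0x68163013)
  (.E)))
  (.B (.B (.L 0x3409013)
  (.E))
  (.B (.L 0x18c0f033)
  (.E))))
  (.B (.B (.B (.L 0x1033)
  (.E))
  (.B (.L 0x481e3023)
  (.E)))
  (.B (.B (.L 0x140b033)
  (.E))
  (.B (.L 0x718123013)
  (.E))))))
  (.B (.B (.B (.B (.B (.L 0xd032)
  (.L 0xd18163023))
  (.B (.L 0x10140b00b)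
  (.E)))
  (.B (.B (.L 0x2c0900b)
  (.E))
  (.B (.L 0x18123033)
  (.E))))
  (.B (.B (.B (.L 0x80e301a)
  (.L 0xa302c0d00b))
  (.B (.L 0x10140d01b)
  (.E)))
  (.B (.B (.L 0xc0b02b)
  (.E))
  (.B (.L 0x2058c0900b)
  (.E)))))
  (.B (.B (.B (.B (.L 0x40902a)
  (.L 0x2068123033))
  (.B (.L 0x10140b013)
  (.E)))
  (.B (.B (.L 0x3c0901b)
  (.E))
  (.B (.L 0x10140303b)
  (.E))))
  (.B (.B (.B (.L 0x1e300b)
  (.E))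
  (.B (.L 0x1806302b)
  (.E)))
  (.B (.B (.L 0x1c0b03b)
  (.E))
  (.B (.L 0xb00c0f013)
  (.E))))))))
  (.B (.B (.B (.B (.B (.B (.B (.L 0x20589)
  (.L 0xb1816301b))
  (.B (.L 0x3812300b)
  (.E)))
  (.B (.B (.L 0x40d023)
  (.E))
  (.B (.L 0x38c0302b)
  (.E))))
  (.B (.B (.B (.L 0x80e028a)
  (.L 0xd1812303b))
  (.B (.L 0x1812301b)
  (.E)))
  (.B (.B (.L 0x8c07023)
  (.E))
  (.B (.L 0x3180a300b)
  (.E)))))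
  (.B (.B (.B (.B (.L 0x1a058a)
  (.L 0xd180a302b))
  (.B (.L 0x680e3013)
  (.E)))
  (.B (.B (.L 0x3405013)
  (.E))
  (.B (.L 0x78c09033)
  (.E))))
  (.B (.B (.B (.L 0x20281e028a)
  (.L 0x81e038163013))
  (.B (.L 0x28163023)
  (.E)))
  (.B (.B (.L 0x1407033)
  (.E))
  (.B (.L 0xb180a3013)
  (.E))))))
  (.B (.B (.B (.B (.B (.L 0xd022)
  (.L 0x5180e3023))
  (.B (.L 0x58c0900b)
  (.E)))
  (.B (.B (.L 0x2c0500b)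
  (.E))
  (.B (.L 0x1180a3033)
  (.E))))
  (.B (.B (.B (.L 0x1c0900a)
  (.L 0x6048c0700b))
  (.B (.L 0x28c0b01b)
  (.E)))
  (.B (.B (.L 0xc0702b)
  (.E))
  (.B (.L 0x500c0500b)
  (.E)))))
  (.B (.B (.B (.B (.L 0x403022)
  (.L 0x20380a3033))
  (.B (.L 0x28c09013)
  (.E)))
  (.B (.B (.L 0x3c0501b)
  (.E))
  (.B (.L 0x481a303b)
  (.E))))
  (.B (.B (.B (.L 0xd033)
  (.E))
  (.B (.L 0x28c0d023)
  (.E)))
  (.B (.B (.L 0x1c0703b)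
  (.E))
  (.B (.L 0x2302c09013)
  (.E)))))))
  (.B (.B (.B (.B (.B (.B (.L 0x2068a)
  (.L 0x30140d01b))
  (.B (.L 0x48c0300b)
  (.E)))
  (.B (.B (.L 0xe303b)
  (.E))
  (.B (.L 0x58c0902b)
  (.E))))
  (.B (.B (.B (.L 0x806058a)
  (.L 0xe0680e300b))
  (.B (.L 0x48c0301b)
  (.E)))
  (.B (.B (.L 0x8c0f023)
  (.E))
  (.B (.L 0x91816300b)
  (.E)))))
  (.B (.B (.B (.B (.L 0xa3012)
  (.L 0x20381e302b))
  (.B (.L 0x681e3013)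
  (.E)))
  (.B (.B (.L 0x340d013)
  (.E))
  (.B (.L 0x1180a303b)
  (.E))))
  (.B (.B (.B (.L 0xd013)
  (.E))
  (.B (.L 0x68c05023)
  (.E)))
  (.B (.B (.L 0x140f033)
  (.E))
  (.B (.L 0x2048163013)
  (.E))))))
  (.B (.B (.B (.B (.B (.L 0x1a018a)
  (.L 0x20481e3023))
  (.B (.L 0x28c0f00b)
  (.E)))
  (.B (.B (.L 0x2c0d00b)
  (.E))
  (.B (.L 0x481a3033)
  (.E))))
  (.B (.B (.B (.L 0x81e303a)
  (.L 0xe038163013))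
  (.B (.L 0x18063023)
  (.E)))
  (.B (.B (.L 0xc0f02b)
  (.E))
  (.B (.L 0x2300c0b00b)
  (.E)))))
  (.B (.B (.B (.B (.L 0x6303a)
  (.L 0x2078c03033))
  (.B (.L 0x58c0f013)
  (.E)))
  (.B (.B (.L 0x3c0d01b)
  (.E))
  (.B (.L 0x78c0903b)
  (.E))))
  (.B (.B (.B (.L 0x405013)
  (.E))
  (.B (.L 0x780e302b)
  (.E)))
  (.B (.B (.L 0x1c0f03b)
  (.E))
  (.B (.L 0x204806301b)
  (.E)))))))))
  (.B (.B (.B (.B (.B (.B (.B (.B (.L 0x489)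
  (.L 0x201812301b))
  (.B (.L 0x380e300b)
  (.E)))
  (.B (.B (.L 0x163023)
  (.E))
  (.B (.L 0x281e302b)
  (.E))))
  (.B (.B (.B (.L 0xc6028a)
  (.L 0xd180e303b))
  (.B (.L 0x1180e301b)
  (.E)))
  (.B (.B (.L 0x8c05023)
  (.E))
  (.B (.L 0x91806300b)
  (.E)))))
  (.B (.B (.B (.B (.L 0x1a048a)
  (.L 0xb1806302b))
  (.B (.L 0x680a3013)
  (.E)))
  (.B (.B (.L 0x3403013)
  (.E))
  (.B (.L 0x28c07033)
  (.E))))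
  (.B (.B (.B (.L 0x1181a068a)
  (.L 0x12078c0b01b))
  (.B (.L 0x28123023)
  (.E)))
  (.B (.B (.L 0x1405033)
  (.E))
  (.B (.L 0x2018063013)
  (.E))))))
  (.B (.B (.B (.B (.B (.L 0xd01a)
  (.L 0x9180a3023))
  (.B (.L 0x100c0700b)
  (.E)))
  (.B (.B (.L 0x2c0300b)
  (.E))
  (.B (.L 0x118063033)
  (.E))))
  (.B (.B (.B (.L 0x816078a)
  (.L 0x1e0481e300b))
  (.B (.L 0x18c0901b)
  (.E)))
  (.B (.B (.L 0xc0502b)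
  (.E))
  (.B (.L 0x20281e300b)
  (.E)))))
  (.B (.B (.B (.B (.L 0x40f01a)
  (.L 0x2028063033))
  (.B (.L 0x58c07013)
  (.E)))
  (.B (.B (.L 0x3c0301b)
  (.E))
  (.B (.L 0x4816303b)
  (.E))))
  (.B (.B (.B (.L 0xd02b)
  (.E))
  (.B (.L 0x58c0b023)
  (.E)))
  (.B (.B (.L 0x1c0503b)
  (.E))
  (.B (.L 0x2301405013)
  (.E)))))))
  (.B (.B (.B (.B (.B (.B (.L 0x102a)
  (.L 0x2301c0701b))
  (.B (.L 0x381e300b)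
  (.E)))
  (.B (.B (.L 0x405033)
  (.E))
  (.B (.L 0x68c0702b)
  (.E))))
  (.B (.B (.B (.L 0x81a048a)
  (.L 0x40d180a300b))
  (.B (.L 0x381e301b)
  (.E)))
  (.B (.B (.L 0x8c0d023)
  (.E))
  (.B (.L 0x91812300b)
  (.E)))))
  (.B (.B (.B (.B (.L 0x1e300a)
  (.L 0x20581a302b))
  (.B (.L 0x681a3013)
  (.E)))
  (.B (.B (.L 0x340b013)
  (.E))
  (.B (.L 0x102c0f033)
  (.E))))
  (.B (.B (.B (.L 0xd00b)
  (.E))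
  (.B (.L 0x68c03023)
  (.E)))
  (.B (.B (.L 0x140d033)
  (.E))
  (.B (.L 0x518163013)
  (.E))))))
  (.B (.B (.B (.B (.B (.L 0xd03a)
  (.L 0x20781a3023))
  (.B (.L 0x68c0d00b)
  (.E)))
  (.B (.B (.L 0x2c0b00b)
  (.E))
  (.B (.L 0x18163033)
  (.E))))
  (.B (.B (.B (.L 0x816302a)
  (.L 0x1e068c0f00b))
  (.B (.L 0x58c0f01b)
  (.E)))
  (.B (.B (.L 0xc0d02b)
  (.E))
  (.B (.L 0x301c0900b)
  (.E)))))
  (.B (.B (.B (.B (.L 0x1a3032)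
  (.L 0x9181a3033))
  (.B (.L 0x68c0d013)
  (.E)))
  (.B (.B (.L 0x3c0b01b)
  (.E))
  (.B (.L 0x58c0703b)
  (.E))))
  (.B (.B (.B (.L 0x63013)
  (.E))
  (.B (.L 0x480a302b)
  (.E)))
  (.B (.B (.L 0x1c0d03b)
  (.E))
  (.B (.L 0x31806301b)
  (.E))))))))
  (.B (.B (.B (.B (.B (.B (.B (.L 0x22)
  (.L 0x5181a301b))
  (.B (.L 0x3816300b)
  (.E)))
  (.B (.B (.L 0x1e302b)
  (.E))
  (.B (.L 0x18c0502b)
  (.E))))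
  (.B (.B (.B (.L 0x346038a)
  (.L 0x7181a303b))
  (.B (.L 0x1816301b)
  (.E)))
  (.B (.B (.L 0x8c09023)
  (.E))
  (.B (.L 0x20780a300b)
  (.E)))))
  (.B (.B (.B (.B (.L 0x1a068a)
  (.L 0xb1812302b))
  (.B (.L 0x68123013)
  (.E)))
  (.B (.B (.L 0x3407013)
  (.E))
  (.B (.L 0x78c0b033)
  (.E))))
  (.B (.B (.B (.L 0x2b)
  (.E))
  (.B (.L 0x481a3023)
  (.E)))
  (.B (.B (.L 0x1409033)
  (.E))
  (.B (.L 0x7180e3013)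
  (.E))))))
  (.B (.B (.B (.B (.B (.L 0xd02a)
  (.L 0xd18123023))
  (.B (.L 0x18c0b00b)
  (.E)))
  (.B (.B (.L 0x2c0700b)
  (.E))
  (.B (.L 0x180e3033)
  (.E))))
  (.B (.B (.B (.L 0x1c0f00a)
  (.L 0x16048c0b00b))
  (.B (.L 0x18c0d01b)
  (.E)))
  (.B (.B (.L 0xc0902b)
  (.E))
  (.B (.L 0x303c0500b)
  (.E)))))
  (.B (.B (.B (.B (.L 0xe302a)
  (.L 0x20780e3033))
  (.B (.L 0x101c09013)
  (.E)))
  (.B (.B (.L 0x3c0701b)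
  (.E))
  (.B (.L 0x781e303b)
  (.E))))
  (.B (.B (.B (.L 0xd03b)
  (.E))
  (.B (.L 0x103c0d023)
  (.E)))
  (.B (.B (.L 0x1c0903b)
  (.E))
  (.B (.L 0x230140b013)
  (.E)))))))
  (.B (.B (.B (.B (.B (.B (.L 0xd00a)
  (.L 0x230140f01b))
  (.B (.L 0x48c0500b)
  (.E)))
  (.B (.B (.L 0x40903b)
  (.E))
  (.B (.L 0x58c0b02b)
  (.E))))
  (.B (.B (.B (.L 0x2c6068a)
  (.L 0xa02816300b))
  (.B (.L 0x28c0501b)
  (.E)))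
  (.B (.B (.L 0x806302b)
  (.E))
  (.B (.L 0x206816300b)
  (.E)))))
  (.B (.B (.B (.B (.L 0x409012)
  (.L 0x230240702b))
  (.B (.L 0x78c03013)
  (.E)))
  (.B (.B (.L 0x340f013)
  (.E))
  (.B (.L 0x1180e303b)
  (.E))))
  (.B (.B (.B (.L 0xd01b)
  (.E))
  (.B (.L 0x58c07023)
  (.E)))
  (.B (.B (.L 0x80e303b)
  (.E))
  (.B (.L 0x20281a3013)
  (.E))))))
  (.B (.B (.B (.B (.B (.L 0x1a028a)
  (.L 0x2068c05023))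
  (.B (.L 0x10240f00b)
  (.E)))
  (.B (.B (.L 0x2c0f00b)
  (.E))
  (.B (.L 0x681e3033)
  (.E))))
  (.B (.B (.B (.L 0x480a018a)
  (.L 0x12048c0b013))
  (.B (.L 0x180a3023)
  (.E)))
  (.B (.B (.L 0x80a3033)
  (.E))
  (.B (.L 0x230240d00b)
  (.E)))))
  (.B (.B (.B (.B (.L 0x40503a)
  (.L 0x230240f033))
  (.B (.L 0x11806301b)
  (.E)))
  (.B (.B (.L 0x3c0f01b)
  (.E))
  (.B (.L 0x68c0b03b)
  (.E))))
  (.B (.B (.B (.L 0xe301b)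
  (.E))
  (.B (.L 0x7812302b)
  (.E)))
  (.B (.B (.L 0x3806300b)
  (.E))
  (.B (.L 0x20380a301b)
  (.E))))))))))))
  (.B (.B (.B (.B (.B (.B (.B (.B (.B (.B (.B (.L 0x1)
  (.L 0x3180e301b))
  (.B (.L 0x6806300b)
  (.E)))
  (.B (.B (.L 0x1a301b)
  (.E))
  (.B (.L 0x2816302b)
  (.E))))
  (.B (.B (.B (.L 0x40b03a)
  (.L 0x71806303b))
  (.B (.L 0x3806301b)
  (.E)))
  (.B (.B (.L 0x80e3023)
  (.E))
  (.B (.L 0x103c0b03b)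
  (.E)))))
  (.B (.B (.B (.B (.L 0x6038a)
  (.L 0x900c07023))
  (.B (.L 0x18063013)
  (.E)))
  (.B (.B (.L 0x8063013)
  (.E))
  (.B (.L 0x48c03033)
  (.E))))
  (.B (.B (.B (.L 0x181a018a)
  (.L 0x16078c0b013))
  (.B (.L 0x480a3023)
  (.E)))
  (.B (.B (.L 0x8163033)
  (.E))
  (.B (.L 0x502c0d00b)
  (.E))))))
  (.B (.B (.B (.B (.B (.L 0x3012)
  (.L 0xd01c0f01b))
  (.B (.L 0x78c0500b)
  (.E)))
  (.B (.B (.L 0x40f03b)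
  (.E))
  (.B (.L 0x102c0b02b)
  (.E))))
  (.B (.B (.B (.L 0x80a068a)
  (.L 0x1602816300b))
  (.B (.L 0x68c0501b)
  (.E)))
  (.B (.B (.L 0x812302b)
  (.E))
  (.B (.L 0x7181a300b)
  (.E)))))
  (.B (.B (.B (.B (.L 0x40f012)
  (.L 0x2028c0902b))
  (.B (.L 0x102c03013)
  (.E)))
  (.B (.B (.L 0x80a301b)
  (.E))
  (.B (.L 0x380e303b)
  (.E))))
  (.B (.B (.B (.L 0x3023)
  (.E))
  (.B (.L 0x100c07023)
  (.E)))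
  (.B (.B (.L 0x81a303b)
  (.E))
  (.B (.L 0x20681a3013)
  (.E)))))))
  (.B (.B (.B (.B (.B (.B (.L 0x3a)
  (.L 0xd181a301b))
  (.B (.L 0x6816300b)
  (.E)))
  (.B (.B (.L 0x40702b)
  (.E))
  (.B (.L 0x48c0502b)
  (.E))))
  (.B (.B (.B (.L 0x80e038a)
  (.L 0x20581a303b))
  (.B (.L 0x4816301b)
  (.E)))
  (.B (.B (.L 0x1c09023)
  (.E))
  (.B (.L 0x7180e300b)
  (.E)))))
  (.B (.B (.B (.B (.L 0x6078a)
  (.L 0x202812302b))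
  (.B (.L 0x18163013)
  (.E)))
  (.B (.B (.L 0xc09013)
  (.E))
  (.B (.L 0x18c0d033)
  (.E))))
  (.B (.B (.B (.L 0x100b)
  (.E))
  (.B (.L 0x781a3023)
  (.E)))
  (.B (.B (.L 0x2c09033)
  (.E))
  (.B (.L 0xd180e3013)
  (.E))))))
  (.B (.B (.B (.B (.B (.L 0x3032)
  (.L 0x2068123023))
  (.B (.L 0x48c0b00b)
  (.E)))
  (.B (.B (.L 0x8c0900b)
  (.E))
  (.B (.L 0x480e3033)
  (.E))))
  (.B (.B (.B (.L 0x8c03012)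
  (.L 0xa068c0b00b))
  (.B (.L 0x48c0d01b)
  (.E)))
  (.B (.B (.L 0x240902b)
  (.E))
  (.B (.L 0x903c0500b)
  (.E)))))
  (.B (.B (.B (.B (.L 0x1a302a)
  (.L 0x718123033))
  (.B (.L 0x28c0b013)
  (.E)))
  (.B (.B (.L 0x140901b)
  (.E))
  (.B (.L 0x38c0303b)
  (.E))))
  (.B (.B (.B (.L 0xa300b)
  (.E))
  (.B (.L 0x48c0f023)
  (.E)))
  (.B (.B (.L 0x340903b)
  (.E))
  (.B (.L 0x2058c0f013)
  (.E))))))))
  (.B (.B (.B (.B (.B (.B (.B (.L 0x789)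
  (.L 0x206812301b))
  (.B (.L 0x680e300b)
  (.E)))
  (.B (.B (.L 0x403023)
  (.E))
  (.B (.L 0x581e302b)
  (.E))))
  (.B (.B (.B (.L 0x246028a)
  (.L 0x20580e303b))
  (.B (.L 0x380e301b)
  (.E)))
  (.B (.B (.L 0x1c05023)
  (.E))
  (.B (.L 0xf1806300b)
  (.E)))))
  (.B (.B (.B (.B (.L 0x6058a)
  (.L 0x206806302b))
  (.B (.L 0x180e3013)
  (.E)))
  (.B (.B (.L 0xc05013)
  (.E))
  (.B (.L 0x68c07033)
  (.E))))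
  (.B (.B (.B (.L 0x201806018a)
  (.L 0x80a0680e300b))
  (.B (.L 0x58123023)
  (.E)))
  (.B (.B (.L 0x2c05033)
  (.E))
  (.B (.L 0x2078063013)
  (.E))))))
  (.B (.B (.B (.B (.B (.L 0x3022)
  (.L 0x20280a3023))
  (.B (.L 0x103c0700b)
  (.E)))
  (.B (.B (.L 0x8c0500b)
  (.E))
  (.B (.L 0x38063033)
  (.E))))
  (.B (.B (.B (.L 0x1c0500a)
  (.L 0x40f00c0500b))
  (.B (.L 0x48c0901b)
  (.E)))
  (.B (.B (.L 0x240502b)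
  (.E))
  (.B (.L 0x20781e300b)
  (.E)))))
  (.B (.B (.B (.B (.L 0xe3022)
  (.L 0x3180a3033))
  (.B (.L 0x101407013)
  (.E)))
  (.B (.B (.L 0x140501b)
  (.E))
  (.B (.L 0x7816303b)
  (.E))))
  (.B (.B (.B (.L 0x3033)
  (.E))
  (.B (.L 0x10140b023)
  (.E)))
  (.B (.B (.L 0x340503b)
  (.E))
  (.B (.L 0x2300c09013)
  (.E)))))))
  (.B (.B (.B (.B (.B (.B (.L 0x2018a)
  (.L 0x2068c0b01b))
  (.B (.L 0x681e300b)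
  (.E)))
  (.B (.B (.L 0x40b033)
  (.E))
  (.B (.L 0x102c0702b)
  (.E))))
  (.B (.B (.B (.L 0x1c6058a)
  (.L 0x120180e300b))
  (.B (.L 0x681e301b)
  (.E)))
  (.B (.B (.L 0x1c0d023)
  (.E))
  (.B (.L 0xf1812300b)
  (.E)))))
  (.B (.B (.B (.B (.L 0x40900a)
  (.L 0x9181e302b))
  (.B (.L 0x181e3013)
  (.E)))
  (.B (.B (.L 0xc0d013)
  (.E))
  (.B (.L 0x1806303b)
  (.E))))
  (.B (.B (.B (.L 0x3013)
  (.E))
  (.B (.L 0x103403023)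
  (.E)))
  (.B (.B (.L 0x2c0d033)
  (.E))
  (.B (.L 0xd18163013)
  (.E))))))
  (.B (.B (.B (.B (.B (.L 0x6018a)
  (.L 0x7181e3023))
  (.B (.L 0x10140d00b)
  (.E)))
  (.B (.B (.L 0x8c0d00b)
  (.E))
  (.B (.L 0x58163033)
  (.E))))
  (.B (.B (.B (.L 0x8c0f02a)
  (.L 0x12048063013))
  (.B (.L 0x100c0f01b)
  (.E)))
  (.B (.B (.L 0x240d02b)
  (.E))
  (.B (.L 0xb01c0900b)
  (.E)))))
  (.B (.B (.B (.B (.L 0x405032)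
  (.L 0x5181e3033))
  (.B (.L 0x102c0d013)
  (.E)))
  (.B (.B (.L 0x140d01b)
  (.E))
  (.B (.L 0x28c0903b)
  (.E))))
  (.B (.B (.B (.L 0x123013)
  (.E))
  (.B (.L 0x1180e302b)
  (.E)))
  (.B (.B (.L 0x340d03b)
  (.E))
  (.B (.L 0x91806301b)
  (.E)))))))))
  (.B (.B (.B (.B (.B (.B (.B (.B (.L 0x39)
  (.L 0x51812301b))
  (.B (.L 0x680a300b)
  (.E)))
  (.B (.B (.L 0x40f01b)
  (.E))
  (.B (.L 0x581a302b)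
  (.E))))
  (.B (.B (.B (.L 0x3c6018a)
  (.L 0x20480a303b))
  (.B (.L 0x380a301b)
  (.E)))
  (.B (.B (.L 0x1c03023)
  (.E))
  (.B (.L 0x78c0f03b)
  (.E)))))
  (.B (.B (.B (.B (.L 0x6048a)
  (.L 0x2303c0d023))
  (.B (.L 0x180a3013)
  (.E)))
  (.B (.B (.L 0xc03013)
  (.E))
  (.B (.L 0x58c05033)
  (.E))))
  (.B (.B (.B (.L 0x381a038a)
  (.L 0xa01816301b))
  (.B (.L 0x480e3023)
  (.E)))
  (.B (.B (.L 0x2c03033)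
  (.E))
  (.B (.L 0x718063013)
  (.E))))))
  (.B (.B (.B (.B (.B (.L 0x301a)
  (.L 0x2038063023))
  (.B (.L 0x38c0700b)
  (.E)))
  (.B (.B (.L 0x8c0300b)
  (.E))
  (.B (.L 0x38c0f02b)
  (.E))))
  (.B (.B (.B (.L 0x2c6078a)
  (.L 0x1a0281e300b))
  (.B (.L 0x38c0701b)
  (.E)))
  (.B (.B (.L 0x240302b)
  (.E))
  (.B (.L 0x7181e300b)
  (.E)))))
  (.B (.B (.B (.B (.L 0x40301a)
  (.L 0x518063033))
  (.B (.L 0x101405013)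
  (.E)))
  (.B (.B (.L 0x140301b)
  (.E))
  (.B (.L 0x4812303b)
  (.E))))
  (.B (.B (.B (.L 0x302b)
  (.E))
  (.B (.L 0x102409023)
  (.E)))
  (.B (.B (.L 0x340303b)
  (.E))
  (.B (.L 0xf181e3013)
  (.E)))))))
  (.B (.B (.B (.B (.B (.B (.L 0x78a)
  (.L 0x230240301b))
  (.B (.L 0x681a300b)
  (.E)))
  (.B (.B (.L 0x123033)
  (.E))
  (.B (.L 0x18c0702b)
  (.E))))
  (.B (.B (.B (.L 0x346048a)
  (.L 0x230340903b))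
  (.B (.L 0x481a301b)
  (.E)))
  (.B (.B (.L 0x1c0b023)
  (.E))
  (.B (.L 0x20680e300b)
  (.E)))))
  (.B (.B (.B (.B (.L 0xa300a)
  (.L 0xb181a302b))
  (.B (.L 0x181a3013)
  (.E)))
  (.B (.B (.L 0xc0b013)
  (.E))
  (.B (.L 0x48c0f033)
  (.E))))
  (.B (.B (.B (.L 0x300b)
  (.E))
  (.B (.L 0x781e3023)
  (.E)))
  (.B (.B (.L 0x2c0b033)
  (.E))
  (.B (.L 0xd18123013)
  (.E))))))
  (.B (.B (.B (.B (.B (.L 0x303a)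
  (.L 0x3181a3023))
  (.B (.L 0x18c0d00b)
  (.E)))
  (.B (.B (.L 0x8c0b00b)
  (.E))
  (.B (.L 0x48123033)
  (.E))))
  (.B (.B (.B (.L 0x8c0b01a)
  (.L 0xa028c0f00b))
  (.B (.L 0x103c0d01b)
  (.E)))
  (.B (.B (.L 0x240b02b)
  (.E))
  (.B (.L 0x900c0900b)
  (.E)))))
  (.B (.B (.B (.B (.L 0x63032)
  (.L 0x718163033))
  (.B (.L 0x18c0d013)
  (.E)))
  (.B (.B (.L 0x140b01b)
  (.E))
  (.B (.L 0x58c0503b)
  (.E))))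
  (.B (.B (.B (.L 0x40700b)
  (.E))
  (.B (.L 0x6806302b)
  (.E)))
  (.B (.B (.L 0x340b03b)
  (.E))
  (.B (.L 0x90140f013)
  (.E))))))))
  (.B (.B (.B (.B (.B (.B (.B (.L 0x2)
  (.L 0x202816301b))
  (.B (.L 0x6812300b)
  (.E)))
  (.B (.B (.L 0xa302b)
  (.E))
  (.B (.L 0x68c0302b)
  (.E))))
  (.B (.B (.B (.L 0xc6038a)
  (.L 0x91816303b))
  (.B (.L 0x4812301b)
  (.E)))
  (.B (.B (.L 0x1c07023)
  (.E))
  (.B (.L 0x9180a300b)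
  (.E)))))
  (.B (.B (.B (.B (.L 0x6068a)
  (.L 0x7180e302b))
  (.B (.L 0x18123013)
  (.E)))
  (.B (.B (.L 0xc07013)
  (.E))
  (.B (.L 0x28c0b033)
  (.E))))
  (.B (.B (.B (.L 0x3)
  (.E))
  (.B (.L 0x68163023)
  (.E)))
  (.B (.B (.L 0x2c07033)
  (.E))
  (.B (.L 0x20380a3013)
  (.E))))))
  (.B (.B (.B (.B (.B (.L 0x302a)
  (.L 0xd180e3023))
  (.B (.L 0x100c0900b)
  (.E)))
  (.B (.B (.L 0x8c0700b)
  (.E))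
  (.B (.L 0x380a3033)
  (.E))))
  (.B (.B (.B (.L 0x240b00a)
  (.L 0x16048c0700b))
  (.B (.L 0x68c0b01b)
  (.E)))
  (.B (.B (.L 0x240702b)
  (.E))
  (.B (.L 0xd00c0500b)
  (.E)))))
  (.B (.B (.B (.B (.L 0x40b022)
  (.L 0x9180e3033))
  (.B (.L 0x58c09013)
  (.E)))
  (.B (.B (.L 0x140701b)
  (.E))
  (.B (.L 0x781a303b)
  (.E))))
  (.B (.B (.B (.L 0x303b)
  (.E))
  (.B (.L 0x58c0d023)
  (.E)))
  (.B (.B (.L 0x340703b)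
  (.E))
  (.B (.L 0x902c09013)
  (.E)))))))
  (.B (.B (.B (.B (.B (.B (.L 0x300a)
  (.L 0xd0140d01b))
  (.B (.L 0x78c0300b)
  (.E)))
  (.B (.B (.L 0x1a303b)
  (.E))
  (.B (.L 0x102c0902b)
  (.E))))
  (.B (.B (.B (.L 0x816058a)
  (.L 0x1e0680e300b))
  (.B (.L 0x78c0301b)
  (.E)))
  (.B (.B (.L 0x1c0f023)
  (.E))
  (.B (.L 0xf1816300b)
  (.E)))))
  (.B (.B (.B (.B (.L 0x163012)
  (.L 0x2301c0302b))
  (.B (.L 0x28c03013)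
  (.E)))
  (.B (.B (.L 0xc0f013)
  (.E))
  (.B (.L 0x380a303b)
  (.E))))
  (.B (.B (.B (.L 0x301b)
  (.E))
  (.B (.L 0x103c05023)
  (.E)))
  (.B (.B (.L 0x2c0f033)
  (.E))
  (.B (.L 0x5181a3013)
  (.E))))))
  (.B (.B (.B (.B (.B (.L 0x6028a)
  (.L 0x20781e3023))
  (.B (.L 0x58c0f00b)
  (.E)))
  (.B (.B (.L 0x8c0f00b)
  (.E))
  (.B (.L 0x781a3033)
  (.E))))
  (.B (.B (.B (.L 0x8c0d03a)
  (.L 0x1e038163013))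
  (.B (.L 0x48063023)
  (.E)))
  (.B (.B (.L 0x240f02b)
  (.E))
  (.B (.L 0x700c0d00b)
  (.E)))))
  (.B (.B (.B (.B (.L 0x12303a)
  (.L 0x2058c07033))
  (.B (.L 0x100c0f013)
  (.E)))
  (.B (.B (.L 0x140f01b)
  (.E))
  (.B (.L 0x18c0b03b)
  (.E))))
  (.B (.B (.B (.L 0x40b013)
  (.E))
  (.B (.L 0x2812302b)
  (.E)))
  (.B (.B (.L 0x340f03b)
  (.E))
  (.B (.L 0x9180a301b)
  (.E))))))))))
  (.B (.B (.B (.B (.B (.B (.B (.B (.B (.L 0x19)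
  (.L 0xf180e301b))
  (.B (.L 0x280a300b)
  (.E)))
  (.B (.B (.L 0x40701b)
  (.E))
  (.B (.L 0x181a302b)
  (.E))))
  (.B (.B (.B (.L 0x1c6018a)
  (.L 0xb180a303b))
  (.B (.L 0x7806301b)
  (.E)))
  (.B (.B (.L 0x81e3023)
  (.E))
  (.B (.L 0x78c0d03b)
  (.E)))))
  (.B (.B (.B (.B (.L 0x16038a)
  (.L 0x2301407023))
  (.B (.L 0x58063013)
  (.E)))
  (.B (.B (.L 0x8163013)
  (.E))
  (.B (.L 0x18c05033)
  (.E))))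
  (.B (.B (.B (.L 0x2812028a)
  (.L 0x4091806301b))
  (.B (.L 0x1180e3023)
  (.E)))
  (.B (.B (.L 0xc03033)
  (.E))
  (.B (.L 0x2028c0f00b)
  (.E))))))
  (.B (.B (.B (.B (.B (.L 0xb012)
  (.L 0x918063023))
  (.B (.L 0x10340500b)
  (.E)))
  (.B (.B (.L 0x812300b)
  (.E))
  (.B (.L 0x58c0d02b)
  (.E))))
  (.B (.B (.B (.L 0xc6078a)
  (.L 0x409181a300b))
  (.B (.L 0x102c0501b)
  (.E)))
  (.B (.B (.L 0x8c0302b)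
  (.E))
  (.B (.L 0xf181a300b)
  (.E)))))
  (.B (.B (.B (.B (.L 0x12301a)
  (.L 0x2038c0d02b))
  (.B (.L 0x38c05013)
  (.E)))
  (.B (.B (.L 0x81a301b)
  (.E))
  (.B (.L 0x780e303b)
  (.E))))
  (.B (.B (.B (.L 0xb023)
  (.E))
  (.B (.L 0x28c09023)
  (.E)))
  (.B (.B (.L 0x140303b)
  (.E))
  (.B (.L 0x7181e3013)
  (.E)))))))
  (.B (.B (.B (.B (.B (.B (.L 0x38a)
  (.L 0xb181e301b))
  (.B (.L 0x281a300b)
  (.E)))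
  (.B (.B (.L 0x40f02b)
  (.E))
  (.B (.L 0x100c0502b)
  (.E))))
  (.B (.B (.B (.L 0x146048a)
  (.L 0x2018c0503b))
  (.B (.L 0x1181a301b)
  (.E)))
  (.B (.B (.L 0x3c09023)
  (.E))
  (.B (.L 0xf180e300b)
  (.E)))))
  (.B (.B (.B (.B (.L 0x16078a)
  (.L 0x71816302b))
  (.B (.L 0x58163013)
  (.E)))
  (.B (.B (.L 0x2c09013)
  (.E))
  (.B (.L 0x10340d033)
  (.E))))
  (.B (.B (.B (.L 0x102b)
  (.E))
  (.B (.L 0x381e3023)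
  (.E)))
  (.B (.B (.L 0xc0b033)
  (.E))
  (.B (.L 0x318123013)
  (.E))))))
  (.B (.B (.B (.B (.B (.L 0xb032)
  (.L 0xb18163023))
  (.B (.L 0x100c0b00b)
  (.E)))
  (.B (.B (.L 0x240900b)
  (.E))
  (.B (.L 0x118123033)
  (.E))))
  (.B (.B (.B (.L 0x8c0d012)
  (.L 0x40b00c0d00b))
  (.B (.L 0x100c0d01b)
  (.E)))
  (.B (.B (.L 0x8c0b02b)
  (.E))
  (.B (.L 0x2300c0700b)
  (.E)))))
  (.B (.B (.B (.B (.L 0x40702a)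
  (.L 0x2058123033))
  (.B (.L 0x78c0b013)
  (.E)))
  (.B (.B (.L 0x340901b)
  (.E))
  (.B (.L 0x78c0303b)
  (.E))))
  (.B (.B (.B (.L 0x1a300b)
  (.E))
  (.B (.L 0x11806302b)
  (.E)))
  (.B (.B (.L 0x140b03b)
  (.E))
  (.B (.L 0x900c0f013)
  (.E))))))))
  (.B (.B (.B (.B (.B (.B (.B (.L 0x20489)
  (.L 0x91816301b))
  (.B (.L 0x2812300b)
  (.E)))
  (.B (.B (.L 0x40b023)
  (.E))
  (.B (.L 0x28c0302b)
  (.E))))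
  (.B (.B (.B (.L 0x80a028a)
  (.L 0x91812303b))
  (.B (.L 0x11812301b)
  (.E)))
  (.B (.B (.L 0x3c05023)
  (.E))
  (.B (.L 0x206806300b)
  (.E)))))
  (.B (.B (.B (.B (.L 0x16058a)
  (.L 0xb180a302b))
  (.B (.L 0x580e3013)
  (.E)))
  (.B (.B (.L 0x2c05013)
  (.E))
  (.B (.L 0x68c09033)
  (.E))))
  (.B (.B (.B (.L 0x202812028a)
  (.L 0x80e048063013))
  (.B (.L 0x18163023)
  (.E)))
  (.B (.B (.L 0xc07033)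
  (.E))
  (.B (.L 0x9180a3013)
  (.E))))))
  (.B (.B (.B (.B (.B (.L 0xb022)
  (.L 0x3180e3023))
  (.B (.L 0x48c0900b)
  (.E)))
  (.B (.B (.L 0x240500b)
  (.E))
  (.B (.L 0x78063033)
  (.E))))
  (.B (.B (.B (.L 0x2c0700a)
  (.L 0x12028c0700b))
  (.B (.L 0x102c0901b)
  (.E)))
  (.B (.B (.L 0x8c0702b)
  (.E))
  (.B (.L 0x2038c0500b)
  (.E)))))
  (.B (.B (.B (.B (.L 0x1e3022)
  (.L 0xf180a3033))
  (.B (.L 0x18c09013)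
  (.E)))
  (.B (.B (.L 0x340501b)
  (.E))
  (.B (.L 0x381a303b)
  (.E))))
  (.B (.B (.B (.L 0xb033)
  (.E))
  (.B (.L 0x18c0d023)
  (.E)))
  (.B (.B (.L 0x140703b)
  (.E))
  (.B (.L 0xf01409013)
  (.E)))))))
  (.B (.B (.B (.B (.B (.B (.L 0x2058a)
  (.L 0x230140d01b))
  (.B (.L 0x38c0300b)
  (.E)))
  (.B (.B (.L 0xa303b)
  (.E))
  (.B (.L 0x48c0902b)
  (.E))))
  (.B (.B (.B (.L 0x3c6058a)
  (.L 0xa0680e300b))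
  (.B (.L 0x38c0301b)
  (.E)))
  (.B (.B (.L 0x3c0d023)
  (.E))
  (.B (.L 0x71816300b)
  (.E)))))
  (.B (.B (.B (.B (.L 0x63012)
  (.L 0x20181e302b))
  (.B (.L 0x581e3013)
  (.E)))
  (.B (.B (.L 0x2c0d013)
  (.E))
  (.B (.L 0x7806303b)
  (.E))))
  (.B (.B (.B (.L 0xb013)
  (.E))
  (.B (.L 0x58c05023)
  (.E)))
  (.B (.B (.L 0xc0f033)
  (.E))
  (.B (.L 0x2038163013)
  (.E))))))
  (.B (.B (.B (.B (.B (.L 0x16018a)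
  (.L 0x20181e3023))
  (.B (.L 0x18c0f00b)
  (.E)))
  (.B (.B (.L 0x240d00b)
  (.E))
  (.B (.L 0x281a3033)
  (.E))))
  (.B (.B (.B (.L 0x8c09032)
  (.L 0x6038163013))
  (.B (.L 0x118063023)
  (.E)))
  (.B (.B (.L 0x8c0f02b)
  (.E))
  (.B (.L 0x2068c0b00b)
  (.E)))))
  (.B (.B (.B (.B (.L 0x40f032)
  (.L 0x2058c03033))
  (.B (.L 0x48c0f013)
  (.E)))
  (.B (.B (.L 0x340d01b)
  (.E))
  (.B (.L 0x68c0903b)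
  (.E))))
  (.B (.B (.B (.L 0x403013)
  (.E))
  (.B (.L 0x580e302b)
  (.E)))
  (.B (.B (.L 0x140f03b)
  (.E))
  (.B (.L 0x203806301b)
  (.E)))))))))
  (.B (.B (.B (.B (.B (.B (.B (.B (.L 0x389)
  (.L 0xf1812301b))
  (.B (.L 0x280e300b)
  (.E)))
  (.B (.B (.L 0x123023)
  (.E))
  (.B (.L 0x181e302b)
  (.E))))
  (.B (.B (.B (.L 0x81a018a)
  (.L 0x9180e303b))
  (.B (.L 0x780a301b)
  (.E)))
  (.B (.B (.L 0x3c03023)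
  (.E))
  (.B (.L 0x71806300b)
  (.E)))))
  (.B (.B (.B (.B (.L 0x16048a)
  (.L 0x71806302b))
  (.B (.L 0x580a3013)
  (.E)))
  (.B (.B (.L 0x2c03013)
  (.E))
  (.B (.L 0x103405033)
  (.E))))
  (.B (.B (.B (.L 0x11816058a)
  (.L 0x6078c0b01b))
  (.B (.L 0x118123023)
  (.E)))
  (.B (.B (.L 0xc05033)
  (.E))
  (.B (.L 0xf18063013)
  (.E))))))
  (.B (.B (.B (.B (.B (.L 0xb01a)
  (.L 0x7180a3023))
  (.B (.L 0x78c0700b)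
  (.E)))
  (.B (.B (.L 0x240300b)
  (.E))
  (.B (.L 0x102c0f02b)
  (.E))))
  (.B (.B (.B (.L 0x812078a)
  (.L 0x1a0481e300b))
  (.B (.L 0x101c0701b)
  (.E)))
  (.B (.B (.L 0x8c0502b)
  (.E))
  (.B (.L 0x20181e300b)
  (.E)))))
  (.B (.B (.B (.B (.L 0x40d01a)
  (.L 0xf18063033))
  (.B (.L 0x48c07013)
  (.E)))
  (.B (.B (.L 0x340301b)
  (.E))
  (.B (.L 0x3816303b)
  (.E))))
  (.B (.B (.B (.L 0xb02b)
  (.E))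
  (.B (.L 0x48c0b023)
  (.E)))
  (.B (.B (.L 0x140503b)
  (.E))
  (.B (.L 0x2301403013)
  (.E)))))))
  (.B (.B (.B (.B (.B (.B (.L 0x1022)
  (.L 0x2301c0501b))
  (.B (.L 0x281e300b)
  (.E)))
  (.B (.B (.L 0x403033)
  (.E))
  (.B (.L 0x58c0702b)
  (.E))))
  (.B (.B (.B (.L 0x816048a)
  (.L 0x2303c0f03b))
  (.B (.L 0x281e301b)
  (.E)))
  (.B (.B (.L 0x3c0b023)
  (.E))
  (.B (.L 0x71812300b)
  (.E)))))
  (.B (.B (.B (.B (.L 0x1a300a)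
  (.L 0x20281a302b))
  (.B (.L 0x581a3013)
  (.E)))
  (.B (.B (.L 0x2c0b013)
  (.E))
  (.B (.L 0x10240f033)
  (.E))))
  (.B (.B (.B (.L 0xb00b)
  (.E))
  (.B (.L 0x58c03023)
  (.E)))
  (.B (.B (.L 0xc0d033)
  (.E))
  (.B (.L 0x318163013)
  (.E))))))
  (.B (.B (.B (.B (.B (.L 0xb03a)
  (.L 0xf181a3023))
  (.B (.L 0x58c0d00b)
  (.E)))
  (.B (.B (.L 0x240b00b)
  (.E))
  (.B (.L 0x118163033)
  (.E))))
  (.B (.B (.B (.L 0x8c0f022)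
  (.L 0xa068c0f00b))
  (.B (.L 0x48c0f01b)
  (.E)))
  (.B (.B (.L 0x8c0d02b)
  (.E))
  (.B (.L 0x2301c0900b)
  (.E)))))
  (.B (.B (.B (.B (.L 0x163032)
  (.L 0x2068163033))
  (.B (.L 0x58c0d013)
  (.E)))
  (.B (.B (.L 0x340b01b)
  (.E))
  (.B (.L 0x48c0703b)
  (.E))))
  (.B (.B (.B (.L 0x40f00b)
  (.E))
  (.B (.L 0x280a302b)
  (.E)))
  (.B (.B (.L 0x140d03b)
  (.E))
  (.B (.L 0x230340f013)
  (.E))))))))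
  (.B (.B (.B (.B (.B (.B (.B (.L 0x1a)
  (.L 0x3181a301b))
  (.B (.L 0x2816300b)
  (.E)))
  (.B (.B (.L 0x1a302b)
  (.E))
  (.B (.L 0x10340302b)
  (.E))))
  (.B (.B (.B (.L 0x2c6038a)
  (.L 0x5181a303b))
  (.B (.L 0x11816301b)
  (.E)))
  (.B (.B (.L 0x3c07023)
  (.E))
  (.B (.L 0x20180a300b)
  (.E)))))
  (.B (.B (.B (.B (.L 0x16068a)
  (.L 0x31812302b))
  (.B (.L 0x58123013)
  (.E)))
  (.B (.B (.L 0x2c07013)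
  (.E))
  (.B (.L 0x68c0b033)
  (.E))))
  (.B (.B (.B (.L 0x23)
  (.E))
  (.B (.L 0x381a3023)
  (.E)))
  (.B (.B (.L 0xc09033)
  (.E))
  (.B (.L 0x5180e3013)
  (.E))))))
  (.B (.B (.B (.B (.B (.L 0xb02a)
  (.L 0x918123023))
  (.B (.L 0x103c0900b)
  (.E)))
  (.B (.B (.L 0x240700b)
  (.E))
  (.B (.L 0x1180e3033)
  (.E))))
  (.B (.B (.B (.L 0x8c0f00a)
  (.L 0x1a301c0900b))
  (.B (.L 0x10240b01b)
  (.E)))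
  (.B (.B (.L 0x8c0902b)
  (.E))
  (.B (.L 0x2303c0500b)
  (.E)))))
  (.B (.B (.B (.B (.L 0xa302a)
  (.L 0x20680e3033))
  (.B (.L 0x101409013)
  (.E)))
  (.B (.B (.L 0x340701b)
  (.E))
  (.B (.L 0x581e303b)
  (.E))))
  (.B (.B (.B (.L 0xb03b)
  (.E))
  (.B (.L 0x102c0d023)
  (.E)))
  (.B (.B (.L 0x140903b)
  (.E))
  (.B (.L 0x2078c0b013)
  (.E)))))))
  (.B (.B (.B (.B (.B (.B (.L 0xb00a)
  (.L 0x230240d01b))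
  (.B (.L 0x38c0500b)
  (.E)))
  (.B (.B (.L 0x40703b)
  (.E))
  (.B (.L 0x48c0b02b)
  (.E))))
  (.B (.B (.B (.L 0x246068a)
  (.L 0x4602816300b))
  (.B (.L 0x18c0501b)
  (.E)))
  (.B (.B (.L 0x3c0f023)
  (.E))
  (.B (.L 0x205816300b)
  (.E)))))
  (.B (.B (.B (.B (.L 0x407012)
  (.L 0x230340502b))
  (.B (.L 0x68c03013)
  (.E)))
  (.B (.B (.L 0x2c0f013)
  (.E))
  (.B (.L 0x780a303b)
  (.E))))
  (.B (.B (.B (.L 0xb01b)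
  (.E))
  (.B (.L 0x48c07023)
  (.E)))
  (.B (.B (.L 0x80a303b)
  (.E))
  (.B (.L 0xd181a3013)
  (.E))))))
  (.B (.B (.B (.B (.B (.L 0x16028a)
  (.L 0x2058c05023))
  (.B (.L 0x101c0f00b)
  (.E)))
  (.B (.B (.L 0x240f00b)
  (.E))
  (.B (.L 0x481e3033)
  (.E))))
  (.B (.B (.B (.L 0x180a018a)
  (.L 0xe048c0b013))
  (.B (.L 0x1180a3023)
  (.E)))
  (.B (.B (.L 0x8063033)
  (.E))
  (.B (.L 0x2301c0d00b)
  (.E)))))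
  (.B (.B (.B (.B (.L 0x40303a)
  (.L 0x230340d033))
  (.B (.L 0x10340f013)
  (.E)))
  (.B (.B (.L 0x340f01b)
  (.E))
  (.B (.L 0x58c0b03b)
  (.E))))
  (.B (.B (.B (.L 0xa301b)
  (.E))
  (.B (.L 0x6812302b)
  (.E)))
  (.B (.B (.L 0x2806300b)
  (.E))
  (.B (.L 0x20280a301b)
  (.E)))))))))))
  (.B (.B (.B (.B (.B (.B (.B (.B (.B (.B (.L 0x9)
  (.L 0x7180e301b))
  (.B (.L 0x1180a300b)
  (.E)))
  (.B (.B (.L 0x40301b)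
  (.E))
  (.B (.L 0x5816302b)
  (.E))))
  (.B (.B (.B (.L 0xc6018a)
  (.L 0x202806303b))
  (.B (.L 0x5806301b)
  (.E)))
  (.B (.B (.L 0x8163023)
  (.E))
  (.B (.L 0x38c0d03b)
  (.E)))))
  (.B (.B (.B (.B (.L 0xe038a)
  (.L 0xd00c07023))
  (.B (.L 0x38063013)
  (.E)))
  (.B (.B (.L 0x80e3013)
  (.E))
  (.B (.L 0x68c03033)
  (.E))))
  (.B (.B (.B (.L 0x10146028a)
  (.L 0xa038c0d013))
  (.B (.L 0x680a3023)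
  (.E)))
  (.B (.B (.L 0x81e3033)
  (.E))
  (.B (.L 0xd02c0d00b)
  (.E))))))
  (.B (.B (.B (.B (.B (.L 0x7012)
  (.L 0x518063023))
  (.B (.L 0x10240500b)
  (.E)))
  (.B (.B (.L 0x80a300b)
  (.E))
  (.B (.L 0x38c0d02b)
  (.E))))
  (.B (.B (.B (.L 0x81a068a)
  (.L 0xe06816300b))
  (.B (.L 0x101c0501b)
  (.E)))
  (.B (.B (.L 0x81a302b)
  (.E))
  (.B (.L 0xb181a300b)
  (.E)))))
  (.B (.B (.B (.B (.L 0xa301a)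
  (.L 0x2302c0b02b))
  (.B (.L 0x18c05013)
  (.E)))
  (.B (.B (.L 0x812301b)
  (.E))
  (.B (.L 0x580e303b)
  (.E))))
  (.B (.B (.B (.L 0x7023)
  (.E))
  (.B (.L 0x102407023)
  (.E)))
  (.B (.B (.L 0x8c0303b)
  (.E))
  (.B (.L 0x3181e3013)
  (.E)))))))
  (.B (.B (.B (.B (.B (.B (.L 0x18a)
  (.L 0x5181e301b))
  (.B (.L 0x1181a300b)
  (.E)))
  (.B (.B (.L 0x40b02b)
  (.E))
  (.B (.L 0x68c0502b)
  (.E))))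
  (.B (.B (.B (.L 0x81e038a)
  (.L 0xf181e303b))
  (.B (.L 0x6816301b)
  (.E)))
  (.B (.B (.L 0x2c09023)
  (.E))
  (.B (.L 0xb180e300b)
  (.E)))))
  (.B (.B (.B (.B (.L 0xe078a)
  (.L 0x205812302b))
  (.B (.L 0x38163013)
  (.E)))
  (.B (.B (.L 0x1c09013)
  (.E))
  (.B (.L 0x48c0d033)
  (.E))))
  (.B (.B (.B (.L 0x101b)
  (.E))
  (.B (.L 0x181e3023)
  (.E)))
  (.B (.B (.L 0x3c09033)
  (.E))
  (.B (.L 0x20280e3013)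
  (.E))))))
  (.B (.B (.B (.B (.B (.L 0x7032)
  (.L 0x518163023))
  (.B (.L 0x68c0b00b)
  (.E)))
  (.B (.B (.L 0x140900b)
  (.E))
  (.B (.L 0x680e3033)
  (.E))))
  (.B (.B (.B (.L 0x340b012)
  (.L 0x1a068c0b00b))
  (.B (.L 0x68c0d01b)
  (.E)))
  (.B (.B (.L 0x340902b)
  (.E))
  (.B (.L 0x2028c0700b)
  (.E)))))
  (.B (.B (.B (.B (.L 0x40302a)
  (.L 0xd18123033))
  (.B (.L 0x48c0b013)
  (.E)))
  (.B (.B (.L 0x240901b)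
  (.E))
  (.B (.L 0x58c0303b)
  (.E))))
  (.B (.B (.B (.L 0x12300b)
  (.E))
  (.B (.L 0x68c0f023)
  (.E)))
  (.B (.B (.L 0x8c0b03b)
  (.E))
  (.B (.L 0x500c0f013)
  (.E))))))))
  (.B (.B (.B (.B (.B (.B (.B (.L 0x20289)
  (.L 0x51816301b))
  (.B (.L 0x11812300b)
  (.E)))
  (.B (.B (.L 0x407023)
  (.E))
  (.B (.L 0x781e302b)
  (.E))))
  (.B (.B (.B (.L 0x346028a)
  (.L 0x31812303b))
  (.B (.L 0x680e301b)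
  (.E)))
  (.B (.B (.L 0x2c05023)
  (.E))
  (.B (.L 0x202806300b)
  (.E)))))
  (.B (.B (.B (.B (.L 0xe058a)
  (.L 0x5180a302b))
  (.B (.L 0x380e3013)
  (.E)))
  (.B (.B (.L 0x1c05013)
  (.E))
  (.B (.L 0x18c09033)
  (.E))))
  (.B (.B (.B (.L 0x201812018a)
  (.L 0x81a0481e300b))
  (.B (.L 0x78123023)
  (.E)))
  (.B (.B (.L 0x3c05033)
  (.E))
  (.B (.L 0x5180a3013)
  (.E))))))
  (.B (.B (.B (.B (.B (.L 0x7022)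
  (.L 0x20480a3023))
  (.B (.L 0x28c0900b)
  (.E)))
  (.B (.B (.L 0x140500b)
  (.E))
  (.B (.L 0x58063033)
  (.E))))
  (.B (.B (.B (.L 0x8c0700a)
  (.L 0x12303c0500b))
  (.B (.L 0x68c0901b)
  (.E)))
  (.B (.B (.L 0x340502b)
  (.E))
  (.B (.L 0x2300c0300b)
  (.E)))))
  (.B (.B (.B (.B (.L 0x163022)
  (.L 0x7180a3033))
  (.B (.L 0x103407013)
  (.E)))
  (.B (.B (.L 0x240501b)
  (.E))
  (.B (.L 0x181a303b)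
  (.E))))
  (.B (.B (.B (.L 0x7033)
  (.E))
  (.B (.L 0x10240b023)
  (.E)))
  (.B (.B (.L 0x8c0703b)
  (.E))
  (.B (.L 0x701409013)
  (.E)))))))
  (.B (.B (.B (.B (.B (.B (.L 0x2038a)
  (.L 0x2301c0b01b))
  (.B (.L 0x18c0300b)
  (.E)))
  (.B (.B (.L 0x40f033)
  (.E))
  (.B (.L 0x18c0902b)
  (.E))))
  (.B (.B (.B (.L 0x2c6058a)
  (.L 0x1e0480e300b))
  (.B (.L 0x18c0301b)
  (.E)))
  (.B (.B (.L 0x2c0d023)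
  (.E))
  (.B (.L 0x31816300b)
  (.E)))))
  (.B (.B (.B (.B (.L 0x40d00a)
  (.L 0xd181e302b))
  (.B (.L 0x381e3013)
  (.E)))
  (.B (.B (.L 0x1c0d013)
  (.E))
  (.B (.L 0x3806303b)
  (.E))))
  (.B (.B (.B (.L 0x7013)
  (.E))
  (.B (.L 0x28c05023)
  (.E)))
  (.B (.B (.L 0x3c0d033)
  (.E))
  (.B (.L 0x2018163013)
  (.E))))))
  (.B (.B (.B (.B (.B (.L 0xe018a)
  (.L 0xd181e3023))
  (.B (.L 0x10240d00b)
  (.E)))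
  (.B (.B (.L 0x140d00b)
  (.E))
  (.B (.L 0x78163033)
  (.E))))
  (.B (.B (.B (.L 0x8c03032)
  (.L 0x40d180e3013))
  (.B (.L 0x101c0f01b)
  (.E)))
  (.B (.B (.L 0x340d02b)
  (.E))
  (.B (.L 0x2303c0900b)
  (.E)))))
  (.B (.B (.B (.B (.L 0x409032)
  (.L 0x9181e3033))
  (.B (.L 0x28c0f013)
  (.E)))
  (.B (.B (.L 0x240d01b)
  (.E))
  (.B (.L 0x48c0903b)
  (.E))))
  (.B (.B (.B (.L 0x1a3013)
  (.E))
  (.B (.L 0x380e302b)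
  (.E)))
  (.B (.B (.L 0x8c0f03b)
  (.E))
  (.B (.L 0xd1806301b)
  (.E)))))))))
  (.B (.B (.B (.B (.B (.B (.B (.B (.L 0x189)
  (.L 0x91812301b))
  (.B (.L 0x1180e300b)
  (.E)))
  (.B (.B (.L 0xa3023)
  (.E))
  (.B (.L 0x781a302b)
  (.E))))
  (.B (.B (.B (.L 0x80a018a)
  (.L 0x3180e303b))
  (.B (.L 0x580a301b)
  (.E)))
  (.B (.B (.L 0x2c03023)
  (.E))
  (.B (.L 0x31806300b)
  (.E)))))
  (.B (.B (.B (.B (.L 0xe048a)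
  (.L 0x2068c0f023))
  (.B (.L 0x380a3013)
  (.E)))
  (.B (.B (.L 0x1c03013)
  (.E))
  (.B (.L 0x78c05033)
  (.E))))
  (.B (.B (.B (.L 0x381e038a)
  (.L 0x1601816301b))
  (.B (.L 0x680e3023)
  (.E)))
  (.B (.B (.L 0x3c03033)
  (.E))
  (.B (.L 0xb18063013)
  (.E))))))
  (.B (.B (.B (.B (.B (.L 0x701a)
  (.L 0x2068063023))
  (.B (.L 0x58c0700b)
  (.E)))
  (.B (.B (.L 0x140300b)
  (.E))
  (.B (.L 0x68c0f02b)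
  (.E))))
  (.B (.B (.B (.L 0x3c6078a)
  (.L 0x120481e300b))
  (.B (.L 0x58c0701b)
  (.E)))
  (.B (.B (.L 0x340302b)
  (.E))
  (.B (.L 0xd181e300b)
  (.E)))))
  (.B (.B (.B (.B (.L 0x40901a)
  (.L 0x918063033))
  (.B (.L 0x28c07013)
  (.E)))
  (.B (.B (.L 0x240301b)
  (.E))
  (.B (.L 0x7812303b)
  (.E))))
  (.B (.B (.B (.L 0x702b)
  (.E))
  (.B (.L 0x28c0b023)
  (.E)))
  (.B (.B (.L 0x8c0503b)
  (.E))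
  (.B (.L 0x2038c03013)
  (.E)))))))
  (.B (.B (.B (.B (.B (.B (.L 0x1012)
  (.L 0x2018c0501b))
  (.B (.L 0x1181e300b)
  (.E)))
  (.B (.B (.L 0x1a3033)
  (.E))
  (.B (.L 0x38c0702b)
  (.E))))
  (.B (.B (.B (.L 0x80e048a)
  (.L 0x2018c0d03b))
  (.B (.L 0x781a301b)
  (.E)))
  (.B (.B (.L 0x2c0b023)
  (.E))
  (.B (.L 0x31812300b)
  (.E)))))
  (.B (.B (.B (.B (.L 0x12300a)
  (.L 0xf181a302b))
  (.B (.L 0x381a3013)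
  (.E)))
  (.B (.B (.L 0x1c0b013)
  (.E))
  (.B (.L 0x68c0f033)
  (.E))))
  (.B (.B (.B (.L 0x700b)
  (.E))
  (.B (.L 0x38c03023)
  (.E)))
  (.B (.B (.L 0x3c0b033)
  (.E))
  (.B (.L 0x2028123013)
  (.E))))))
  (.B (.B (.B (.B (.B (.L 0x703a)
  (.L 0xb181a3023))
  (.B (.L 0x38c0d00b)
  (.E)))
  (.B (.B (.L 0x140b00b)
  (.E))
  (.B (.L 0x68123033)
  (.E))))
  (.B (.B (.B (.L 0x8c03022)
  (.L 0x12028c0f00b))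
  (.B (.L 0x28c0f01b)
  (.E)))
  (.B (.B (.L 0x340b02b)
  (.E))
  (.B (.L 0xf00c0900b)
  (.E)))))
  (.B (.B (.B (.B (.L 0xe3032)
  (.L 0xb18163033))
  (.B (.L 0x38c0d013)
  (.E)))
  (.B (.B (.L 0x240b01b)
  (.E))
  (.B (.L 0x78c0503b)
  (.E))))
  (.B (.B (.B (.L 0x40b00b)
  (.E))
  (.B (.L 0x1180a302b)
  (.E)))
  (.B (.B (.L 0x8c0d03b)
  (.E))
  (.B (.L 0xf0140f013)
  (.E))))))))
  (.B (.B (.B (.B (.B (.B (.B (.L 0xa)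
  (.L 0x205816301b))
  (.B (.L 0x11816300b)
  (.E)))
  (.B (.B (.L 0x12302b)
  (.E))
  (.B (.L 0x101c0302b)
  (.E))))
  (.B (.B (.B (.L 0x1c6038a)
  (.L 0xd1816303b))
  (.B (.L 0x6812301b)
  (.E)))
  (.B (.B (.L 0x2c07023)
  (.E))
  (.B (.L 0xd180a300b)
  (.E)))))
  (.B (.B (.B (.B (.L 0xe068a)
  (.L 0xf180e302b))
  (.B (.L 0x38123013)
  (.E)))
  (.B (.B (.L 0x1c07013)
  (.E))
  (.B (.L 0x48c0b033)
  (.E))))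
  (.B (.B (.B (.L 0x13)
  (.E))
  (.B (.L 0x1181a3023)
  (.E)))
  (.B (.B (.L 0x3c07033)
  (.E))
  (.B (.L 0x20780a3013)
  (.E))))))
  (.B (.B (.B (.B (.B (.L 0x702a)
  (.L 0x20480e3023))
  (.B (.L 0x101c0900b)
  (.E)))
  (.B (.B (.L 0x140700b)
  (.E))
  (.B (.L 0x680a3033)
  (.E))))
  (.B (.B (.B (.L 0x2c0d00a)
  (.L 0x40700c0900b))
  (.B (.L 0x100c0b01b)
  (.E)))
  (.B (.B (.L 0x340702b)
  (.E))
  (.B (.L 0x2302c0500b)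
  (.E)))))
  (.B (.B (.B (.B (.L 0x40f022)
  (.L 0xd180e3033))
  (.B (.L 0x78c09013)
  (.E)))
  (.B (.B (.L 0x240701b)
  (.E))
  (.B (.L 0x181e303b)
  (.E))))
  (.B (.B (.B (.L 0x703b)
  (.E))
  (.B (.L 0x78c0d023)
  (.E)))
  (.B (.B (.L 0x8c0903b)
  (.E))
  (.B (.L 0xf02c09013)
  (.E)))))))
  (.B (.B (.B (.B (.B (.B (.L 0x700a)
  (.L 0xd01c0d01b))
  (.B (.L 0x18c0500b)
  (.E)))
  (.B (.B (.L 0x40303b)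
  (.E))
  (.B (.L 0x18c0b02b)
  (.E))))
  (.B (.B (.B (.L 0x146068a)
  (.L 0x1201816300b))
  (.B (.L 0x10240301b)
  (.E)))
  (.B (.B (.L 0x2c0f023)
  (.E))
  (.B (.L 0x202816300b)
  (.E)))))
  (.B (.B (.B (.B (.L 0x1e3012)
  (.L 0x2300c0502b))
  (.B (.L 0x48c03013)
  (.E)))
  (.B (.B (.L 0x1c0f013)
  (.E))
  (.B (.L 0x580a303b)
  (.E))))
  (.B (.B (.B (.L 0x701b)
  (.E))
  (.B (.L 0x28c07023)
  (.E)))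
  (.B (.B (.L 0x3c0f033)
  (.E))
  (.B (.L 0x9181a3013)
  (.E))))))
  (.B (.B (.B (.B (.B (.L 0xe028a)
  (.L 0x2058c03023))
  (.B (.L 0x78c0f00b)
  (.E)))
  (.B (.B (.L 0x140f00b)
  (.E))
  (.B (.L 0x281e3033)
  (.E))))
  (.B (.B (.B (.L 0x11806018a)
  (.L 0x407181e3013))
  (.B (.L 0x68063023)
  (.E)))
  (.B (.B (.L 0x340f02b)
  (.E))
  (.B (.L 0xb00c0d00b)
  (.E)))))
  (.B (.B (.B (.B (.L 0x1a303a)
  (.L 0x2078c09033))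
  (.B (.L 0x101c0f013)
  (.E)))
  (.B (.B (.L 0x240f01b)
  (.E))
  (.B (.L 0x38c0b03b)
  (.E))))
  (.B (.B (.B (.L 0x40f013)
  (.E))
  (.B (.L 0x4812302b)
  (.E)))
  (.B (.B (.L 0x11806300b)
  (.E))
  (.B (.L 0xd180a301b)
  (.E))))))))))
  (.B (.B (.B (.B (.B (.B (.B (.B (.B (.L 0x29)
  (.L 0x20780e301b))
  (.B (.L 0x480a300b)
  (.E)))
  (.B (.B (.L 0x40b01b)
  (.E))
  (.B (.L 0x381a302b)
  (.E))))
  (.B (.B (.B (.L 0x2c6018a)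
  (.L 0xf180a303b))
  (.B (.L 0x180a301b)
  (.E)))
  (.B (.B (.L 0xc03023)
  (.E))
  (.B (.L 0x38c0f03b)
  (.E)))))
  (.B (.B (.B (.B (.L 0x1e038a)
  (.L 0x230140b023))
  (.B (.L 0x78063013)
  (.E)))
  (.B (.B (.L 0x81e3013)
  (.E))
  (.B (.L 0x38c05033)
  (.E))))
  (.B (.B (.B (.L 0x481e028a)
  (.L 0x160780a301b))
  (.B (.L 0x280e3023)
  (.E)))
  (.B (.B (.L 0x1c03033)
  (.E))
  (.B (.L 0x2300c0f00b)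
  (.E))))))
  (.B (.B (.B (.B (.B (.L 0xf012)
  (.L 0xd18063023))
  (.B (.L 0x18c0700b)
  (.E)))
  (.B (.B (.L 0x81a300b)
  (.E))
  (.B (.L 0x103c0d02b)
  (.E))))
  (.B (.B (.B (.L 0x1c6078a)
  (.L 0x1a0181e300b))
  (.B (.L 0x18c0701b)
  (.E)))
  (.B (.B (.L 0x140302b)
  (.E))
  (.B (.L 0x3181e300b)
  (.E)))))
  (.B (.B (.B (.B (.L 0x1a301a)
  (.L 0x2038c0f02b))
  (.B (.L 0x58c05013)
  (.E)))
  (.B (.B (.L 0x8c0301b)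
  (.E))
  (.B (.L 0x1812303b)
  (.E))))
  (.B (.B (.B (.L 0xf023)
  (.E))
  (.B (.L 0x68c09023)
  (.E)))
  (.B (.B (.L 0x240303b)
  (.E))
  (.B (.L 0xb181e3013)
  (.E)))))))
  (.B (.B (.B (.B (.B (.B (.L 0x58a)
  (.L 0xf181e301b))
  (.B (.L 0x481a300b)
  (.E)))
  (.B (.B (.L 0xa3033)
  (.E))
  (.B (.L 0x102c0502b)
  (.E))))
  (.B (.B (.B (.L 0x246048a)
  (.L 0x2048c0703b))
  (.B (.L 0x281a301b)
  (.E)))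
  (.B (.B (.L 0xc0b023)
  (.E))
  (.B (.L 0x20380e300b)
  (.E)))))
  (.B (.B (.B (.B (.L 0x1e078a)
  (.L 0x7181a302b))
  (.B (.L 0x78163013)
  (.E)))
  (.B (.B (.L 0x3c09013)
  (.E))
  (.B (.L 0x28c0f033)
  (.E))))
  (.B (.B (.B (.L 0x103b)
  (.E))
  (.B (.L 0x581e3023)
  (.E)))
  (.B (.B (.L 0x1c0b033)
  (.E))
  (.B (.L 0x918123013)
  (.E))))))
  (.B (.B (.B (.B (.B (.L 0xf032)
  (.L 0xf18163023))
  (.B (.L 0x101c0b00b)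
  (.E)))
  (.B (.B (.L 0x340900b)
  (.E))
  (.B (.L 0x28123033)
  (.E))))
  (.B (.B (.B (.L 0x8c0501a)
  (.L 0x1a302c0d00b))
  (.B (.L 0x101c0d01b)
  (.E)))
  (.B (.B (.L 0x140b02b)
  (.E))
  (.B (.L 0x500c0900b)
  (.E)))))
  (.B (.B (.B (.B (.L 0x40d02a)
  (.L 0x2078123033))
  (.B (.L 0x101c0b013)
  (.E)))
  (.B (.B (.L 0x8c0b01b)
  (.E))
  (.B (.L 0x103c0303b)
  (.E))))
  (.B (.B (.B (.L 0x40300b)
  (.E))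
  (.B (.L 0x3806302b)
  (.E)))
  (.B (.B (.L 0x240b03b)
  (.E))
  (.B (.L 0xf00c0f013)
  (.E))))))))
  (.B (.B (.B (.B (.B (.B (.B (.L 0x20689)
  (.L 0xd1816301b))
  (.B (.L 0x4812300b)
  (.E)))
  (.B (.B (.L 0x40f023)
  (.E))
  (.B (.L 0x48c0302b)
  (.E))))
  (.B (.B (.B (.L 0x812028a)
  (.L 0x206812303b))
  (.B (.L 0x2812301b)
  (.E)))
  (.B (.B (.L 0xc07023)
  (.E))
  (.B (.L 0x5180a300b)
  (.E)))))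
  (.B (.B (.B (.B (.L 0x1e058a)
  (.L 0x20480a302b))
  (.B (.L 0x780e3013)
  (.E)))
  (.B (.B (.L 0x3c05013)
  (.E))
  (.B (.L 0x100c09033)
  (.E))))
  (.B (.B (.B (.L 0x20381a038a)
  (.L 0x8060780a301b))
  (.B (.L 0x48163023)
  (.E)))
  (.B (.B (.L 0x1c07033)
  (.E))
  (.B (.L 0xd180a3013)
  (.E))))))
  (.B (.B (.B (.B (.B (.L 0xf022)
  (.L 0x7180e3023))
  (.B (.L 0x68c0900b)
  (.E)))
  (.B (.B (.L 0x340500b)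
  (.E))
  (.B (.L 0x180a3033)
  (.E))))
  (.B (.B (.B (.L 0x2c0900a)
  (.L 0xe048c0700b))
  (.B (.L 0x38c0b01b)
  (.E)))
  (.B (.B (.L 0x140702b)
  (.E))
  (.B (.L 0x900c0500b)
  (.E)))))
  (.B (.B (.B (.B (.L 0x405022)
  (.L 0x3180e3033))
  (.B (.L 0x38c09013)
  (.E)))
  (.B (.B (.L 0x8c0701b)
  (.E))
  (.B (.L 0x581a303b)
  (.E))))
  (.B (.B (.B (.L 0xf033)
  (.E))
  (.B (.L 0x38c0d023)
  (.E)))
  (.B (.B (.L 0x240703b)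
  (.E))
  (.B (.L 0x502c09013)
  (.E)))))))
  (.B (.B (.B (.B (.B (.B (.L 0x2078a)
  (.L 0x70140d01b))
  (.B (.L 0x58c0300b)
  (.E)))
  (.B (.B (.L 0x12303b)
  (.E))
  (.B (.L 0x78c0902b)
  (.E))))
  (.B (.B (.B (.L 0x80a058a)
  (.L 0x160680e300b))
  (.B (.L 0x58c0301b)
  (.E)))
  (.B (.B (.L 0xc0f023)
  (.E))
  (.B (.L 0xb1816300b)
  (.E)))))
  (.B (.B (.B (.B (.L 0xe3012)
  (.L 0x20481e302b))
  (.B (.L 0x781e3013)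
  (.E)))
  (.B (.B (.L 0x3c0d013)
  (.E))
  (.B (.L 0x180a303b)
  (.E))))
  (.B (.B (.B (.L 0xf013)
  (.E))
  (.B (.L 0x78c05023)
  (.E)))
  (.B (.B (.L 0x1c0f033)
  (.E))
  (.B (.L 0x2058163013)
  (.E))))))
  (.B (.B (.B (.B (.B (.L 0x1e018a)
  (.L 0x20581e3023))
  (.B (.L 0x38c0f00b)
  (.E)))
  (.B (.B (.L 0x340d00b)
  (.E))
  (.B (.L 0x581a3033)
  (.E))))
  (.B (.B (.B (.L 0x8c0503a)
  (.L 0x16038163013))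
  (.B (.L 0x28063023)
  (.E)))
  (.B (.B (.L 0x140f02b)
  (.E))
  (.B (.L 0x2078c0d00b)
  (.E)))))
  (.B (.B (.B (.B (.L 0xa303a)
  (.L 0x2301c05033))
  (.B (.L 0x68c0f013)
  (.E)))
  (.B (.B (.L 0x8c0f01b)
  (.E))
  (.B (.L 0x10340903b)
  (.E))))
  (.B (.B (.B (.L 0x407013)
  (.E))
  (.B (.L 0x11812302b)
  (.E)))
  (.B (.B (.L 0x240f03b)
  (.E))
  (.B (.L 0x3180a301b)
  (.E)))))))))
  (.B (.B (.B (.B (.B (.B (.B (.B (.L 0x589)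
  (.L 0x203812301b))
  (.B (.L 0x480e300b)
  (.E)))
  (.B (.B (.L 0x1a3023)
  (.E))
  (.B (.L 0x381e302b)
  (.E))))
  (.B (.B (.B (.L 0x146028a)
  (.L 0xf180e303b))
  (.B (.L 0x180e301b)
  (.E)))
  (.B (.B (.L 0xc05023)
  (.E))
  (.B (.L 0xb1806300b)
  (.E)))))
  (.B (.B (.B (.B (.L 0x1e048a)
  (.L 0xd1806302b))
  (.B (.L 0x780a3013)
  (.E)))
  (.B (.B (.L 0x3c03013)
  (.E))
  (.B (.L 0x48c07033)
  (.E))))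
  (.B (.B (.B (.L 0x1181e078a)
  (.L 0x1e078c0b01b))
  (.B (.L 0x38123023)
  (.E)))
  (.B (.B (.L 0x1c05033)
  (.E))
  (.B (.L 0x2028063013)
  (.E))))))
  (.B (.B (.B (.B (.B (.L 0xf01a)
  (.L 0xd180a3023))
  (.B (.L 0x102c0700b)
  (.E)))
  (.B (.B (.L 0x340300b)
  (.E))
  (.B (.L 0x18063033)
  (.E))))
  (.B (.B (.B (.L 0x81e078a)
  (.L 0x46018c0300b))
  (.B (.L 0x28c0901b)
  (.E)))
  (.B (.B (.L 0x140502b)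
  (.E))
  (.B (.L 0x20481e300b)
  (.E)))))
  (.B (.B (.B (.B (.L 0x63022)
  (.L 0x2058063033))
  (.B (.L 0x68c07013)
  (.E)))
  (.B (.B (.L 0x8c0501b)
  (.E))
  (.B (.L 0x5816303b)
  (.E))))
  (.B (.B (.B (.L 0xf02b)
  (.E))
  (.B (.L 0x68c0b023)
  (.E)))
  (.B (.B (.L 0x240503b)
  (.E))
  (.B (.L 0x2302407013)
  (.E)))))))
  (.B (.B (.B (.B (.B (.B (.L 0x1032)
  (.L 0x2018c0901b))
  (.B (.L 0x481e300b)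
  (.E)))
  (.B (.B (.L 0x407033)
  (.E))
  (.B (.L 0x78c0702b)
  (.E))))
  (.B (.B (.B (.L 0xc6058a)
  (.L 0x40f180a300b))
  (.B (.L 0x481e301b)
  (.E)))
  (.B (.B (.L 0xc0d023)
  (.E))
  (.B (.L 0xb1812300b)
  (.E)))))
  (.B (.B (.B (.B (.L 0x40500a)
  (.L 0x20781a302b))
  (.B (.L 0x781a3013)
  (.E)))
  (.B (.B (.L 0x3c0b013)
  (.E))
  (.B (.L 0x10340f033)
  (.E))))
  (.B (.B (.B (.L 0xf00b)
  (.E))
  (.B (.L 0x78c03023)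
  (.E)))
  (.B (.B (.L 0x1c0d033)
  (.E))
  (.B (.L 0x918163013)
  (.E))))))
  (.B (.B (.B (.B (.B (.L 0xf03a)
  (.L 0x3181e3023))
  (.B (.L 0x78c0d00b)
  (.E)))
  (.B (.B (.L 0x340b00b)
  (.E))
  (.B (.L 0x38163033)
  (.E))))
  (.B (.B (.B (.L 0x8c0902a)
  (.L 0x6048063013))
  (.B (.L 0x68c0f01b)
  (.E)))
  (.B (.B (.L 0x140d02b)
  (.E))
  (.B (.L 0x501c0900b)
  (.E)))))
  (.B (.B (.B (.B (.L 0x1e3032)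
  (.L 0xd181a3033))
  (.B (.L 0x78c0d013)
  (.E)))
  (.B (.B (.L 0x8c0d01b)
  (.E))
  (.B (.L 0x78c0703b)
  (.E))))
  (.B (.B (.B (.L 0xa3013)
  (.E))
  (.B (.L 0x580a302b)
  (.E)))
  (.B (.B (.L 0x240d03b)
  (.E))
  (.B (.L 0x51806301b)
  (.E))))))))
  (.B (.B (.B (.B (.B (.B (.B (.L 0x2a)
  (.L 0x7181a301b))
  (.B (.L 0x4816300b)
  (.E)))
  (.B (.B (.L 0x40302b)
  (.E))
  (.B (.L 0x28c0502b)
  (.E))))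
  (.B (.B (.B (.L 0x3c6038a)
  (.L 0xf181a303b))
  (.B (.L 0x2816301b)
  (.E)))
  (.B (.B (.L 0xc09023)
  (.E))
  (.B (.L 0x3180e300b)
  (.E)))))
  (.B (.B (.B (.B (.L 0x1e068a)
  (.L 0xd1812302b))
  (.B (.L 0x78123013)
  (.E)))
  (.B (.B (.L 0x3c07013)
  (.E))
  (.B (.L 0x100c0b033)
  (.E))))
  (.B (.B (.B (.L 0x33)
  (.E))
  (.B (.L 0x581a3023)
  (.E)))
  (.B (.B (.L 0x1c09033)
  (.E))
  (.B (.L 0x9180e3013)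
  (.E))))))
  (.B (.B (.B (.B (.B (.L 0xf02a)
  (.L 0xf18123023))
  (.B (.L 0x28c0b00b)
  (.E)))
  (.B (.B (.L 0x340700b)
  (.E))
  (.B (.L 0x280e3033)
  (.E))))
  (.B (.B (.B (.L 0x340f00a)
  (.L 0x1a048c0b00b))
  (.B (.L 0x28c0d01b)
  (.E)))
  (.B (.B (.L 0x140902b)
  (.E))
  (.B (.L 0x503c0500b)
  (.E)))))
  (.B (.B (.B (.B (.L 0x12302a)
  (.L 0x318123033))
  (.B (.L 0x102c09013)
  (.E)))
  (.B (.B (.L 0x8c0901b)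
  (.E))
  (.B (.L 0x18c0303b)
  (.E))))
  (.B (.B (.B (.L 0xf03b)
  (.E))
  (.B (.L 0x28c0f023)
  (.E)))
  (.B (.B (.L 0x240903b)
  (.E))
  (.B (.L 0x2038c0d013)
  (.E)))))))
  (.B (.B (.B (.B (.B (.B (.L 0xf00a)
  (.L 0x501c0f01b))
  (.B (.L 0x58c0500b)
  (.E)))
  (.B (.B (.L 0x40b03b)
  (.E))
  (.B (.L 0x68c0b02b)
  (.E))))
  (.B (.B (.B (.L 0x346068a)
  (.L 0xe02816300b))
  (.B (.L 0x38c0501b)
  (.E)))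
  (.B (.B (.L 0x80a302b)
  (.E))
  (.B (.L 0x3181a300b)
  (.E)))))
  (.B (.B (.B (.B (.L 0x40b012)
  (.L 0x2303c0702b))
  (.B (.L 0x101403013)
  (.E)))
  (.B (.B (.L 0x3c0f013)
  (.E))
  (.B (.L 0x180e303b)
  (.E))))
  (.B (.B (.B (.L 0xf01b)
  (.E))
  (.B (.L 0x68c07023)
  (.E)))
  (.B (.B (.L 0x812303b)
  (.E))
  (.B (.L 0x20381a3013)
  (.E))))))
  (.B (.B (.B (.B (.B (.L 0x1e028a)
  (.L 0x2300c07023))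
  (.B (.L 0x102c0f00b)
  (.E)))
  (.B (.B (.L 0x340f00b)
  (.E))
  (.B (.L 0x781e3033)
  (.E))))
  (.B (.B (.B (.L 0x1812018a)
  (.L 0x1a048c0b013))
  (.B (.L 0x280a3023)
  (.E)))
  (.B (.B (.L 0x80e3033)
  (.E))
  (.B (.L 0x2302c0d00b)
  (.E)))))
  (.B (.B (.B (.B (.L 0x40703a)
  (.L 0x31806303b))
  (.B (.L 0x1806301b)
  (.E)))
  (.B (.B (.L 0x8063023)
  (.E))
  (.B (.L 0x78c0b03b)
  (.E))))
  (.B (.B (.B (.L 0x12301b)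
  (.E))
  (.B (.L 0x11816302b)
  (.E)))
  (.B (.B (.L 0x4806300b)
  (.E))
  (.B (.L 0x20680a301b)
  (.E))))))))))))

end Cfsg.Agent.H71.D4Two
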